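import Cfsg.Agent.H481.InvBound
import Mathlib.GroupTheory.Perm.Centralizer
import Mathlib.Data.Nat.Factorial.DoubleFactorial
import Mathlib.GroupTheory.GroupAction.Quotient
import Mathlib.GroupTheory.PGroup
import Cfsg.Agent.Lib.Cores
import Mathlib.GroupTheory.Nilpotent
import Mathlib.Data.Nat.Factorial.Basic
import Mathlib.Data.Nat.Choose.Basic
import Mathlib.Tactic
import Mathlib
import Cfsg.Agent.FastGrp
import Cfsg.Agent.Prune
set_option linter.all false

-- part: H481/Fib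
section
set_option linter.all false
open scoped Cfsg.Agent.FastGrp

/-!
# Fibres of `J(G) → J(G/N)`

`commute_of_unique` (Lemma U): if `x ∈ J` is the only element of `J` in `x N`, then `x` centralizes `N`.
`card_J_mul_le` : `|J(G/N)| |J(Q)| ≤ |J(G)|` for `Q ≤ N` normal of odd order.
`two_mul_card_J_le` : `2 |J(G/N)| ≤ |J(G)| + |{x̄ ∈ J(G/N) : x̄ lifts to an element of J centralizing N}|`.
-/

set_option autoImplicit false

namespace Cfsg.Agent.H481.Inv

open Cfsg Cfsg.Agent.Lib.Cores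

universe u

section

variable {G : Type u} [Group G] {α : MulAut G}

/-- uniqueness passes to the square -/
theorem unique_sq {N : Subgroup G} (hNn : N.Normal) {x : G}
    (hx : x ∈ J α) (huniq : ∀ y ∈ J α, x⁻¹ * y ∈ N → y = x) :
    ∀ y ∈ J α, (x ^ 2)⁻¹ * y ∈ N → y = x ^ 2 := by
  intro y hy hxy
  obtain ⟨l, hl⟩ := hx.1.mul hy.1
  have hx1 : x ^ (2 * (l + 1)) = x := by
    have : 2 * (l + 1) = orderOf x * orderOf y + 1 := by omega
    rw [this, pow_succ, pow_mul, pow_orderOf_eq_one, one_pow, one_mul]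
  have hy1 : y ^ (2 * (l + 1)) = y := by
    have : 2 * (l + 1) = orderOf y * orderOf x + 1 := by rw [mul_comm (orderOf y)]; omega
    rw [this, pow_succ, pow_mul, pow_orderOf_eq_one, one_pow, one_mul]
  have h1 : y ^ (l + 1) = x := by
    apply huniq _ (pow_mem_J α hy _)
    rw [← QuotientGroup.eq] at hxy ⊢
    have h3 : ((y ^ (l + 1) : G) : G ⧸ N) = (y : G ⧸ N) ^ (l + 1) := rfl
    rw [h3, ← hxy]
    have h4 : ((x ^ 2 : G) : G ⧸ N) ^ (l + 1) = (((x ^ 2) ^ (l + 1) : G) : G ⧸ N) := rfl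
    rw [h4, ← pow_mul, hx1]
  rw [← h1, ← pow_mul, mul_comm (l + 1) 2, hy1]

/-- the basic computation -/
theorem key_unique [Finite G] (h2 : ∀ x, α (α x) = x) {N : Subgroup G} (hNn : N.Normal)
    (hN : ∀ x ∈ N, α x ∈ N) {x : G} (hx : x ∈ J α) (huniq : ∀ y ∈ J α, x⁻¹ * y ∈ N → y = x) {n : G}
    (hn : n ∈ N) : Commute (x⁻¹ * n * x * (α n)⁻¹) x := by
  obtain ⟨e, he⟩ := exists_oddExp (n := Nat.card G) Nat.card_pos.ne'
  obtain ⟨h, hhJ, hhx, hcm, _⟩ := exists_sqrt hx
  set y := cm α (n * h) with hy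
  have hyeq : y = n * x * (α n)⁻¹ := by
    rw [hy, cm, map_mul, mul_inv_rev]
    have : h * (α h)⁻¹ = x := hcm
    calc n * h * ((α h)⁻¹ * (α n)⁻¹) = n * (h * (α h)⁻¹) * (α n)⁻¹ := by group
      _ = n * x * (α n)⁻¹ := by rw [this]
  have hyinv : α y = y⁻¹ := cm_inv h2 _
  have hyJ : y ^ e ∈ J α := ⟨he.odd pow_card_eq_one', by rw [map_pow, hyinv, inv_pow]⟩
  have hxe : x ^ e = x := he.eq_self pow_card_eq_one' hx.1
  have hmem : x⁻¹ * y ^ e ∈ N := by
    have := hNn
    rw [← QuotientGroup.eq]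
    have h3 : (y : G ⧸ N) = (x : G ⧸ N) := by
      rw [QuotientGroup.eq, hyeq]
      have : (n * x * (α n)⁻¹)⁻¹ * x = α n * (x⁻¹ * n⁻¹ * x) := by group
      rw [this]
      apply N.mul_mem (hN n hn)
      have := hNn.conj_mem n⁻¹ (N.inv_mem hn) x⁻¹
      simpa using this
    have h4 : ((y ^ e : G) : G ⧸ N) = (y : G ⧸ N) ^ e := rfl
    rw [h4, h3]
    have h5 : (x : G ⧸ N) ^ e = ((x ^ e : G) : G ⧸ N) := rfl
    rw [h5, hxe]
  have hye : y ^ e = x := huniq _ hyJ hmem
  have hcomm : Commute y x := by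
    rw [← hye]; exact (Commute.refl y).pow_right e
  have h6 : x⁻¹ * n * x * (α n)⁻¹ = x⁻¹ * y := by rw [hyeq]; group
  rw [h6]
  exact (Commute.refl x).inv_left.mul_left hcomm

/-- **Lemma U.** If `x` is the only element of `J` in the coset `x N`, then `x` centralizes `N`. -/
theorem commute_of_unique [Finite G] (h2 : ∀ x, α (α x) = x) {N : Subgroup G} (hNn : N.Normal)
    (hN : ∀ x ∈ N, α x ∈ N) {x : G} (hx : x ∈ J α) (huniq : ∀ y ∈ J α, x⁻¹ * y ∈ N → y = x) :
    ∀ n ∈ N, Commute n x := by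
  -- `z n = n α(n)⁻¹` commutes with `x`
  have hz : ∀ n ∈ N, Commute (n * (α n)⁻¹) x := by
    intro n hn
    have k1 := key_unique h2 hNn hN hx huniq hn
    have k2' := key_unique h2 hNn hN (pow_mem_J α hx 2) (unique_sq hNn hx huniq) hn
    set a := x⁻¹ * n * x * (α n)⁻¹ with ha
    set b := (x ^ 2)⁻¹ * n * x ^ 2 * (α n)⁻¹ with hb
    have k2 : Commute b x := by
      obtain ⟨k, hk⟩ := hx.1
      have hxk : (x ^ 2) ^ (k + 1) = x := by
        rw [← pow_mul, show 2 * (k + 1) = (2 * k + 1) + 1 by ring, pow_succ, ← hk, pow_orderOf_eq_one, one_mul]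
      have := k2'.pow_right (k + 1)
      rw [hxk] at this
      exact this
    have hba : b * a⁻¹ = x⁻¹ * (x⁻¹ * n * x * n⁻¹) * x := by
      rw [hb, ha]; group
    have cba : Commute (b * a⁻¹) x := k2.mul_left k1.inv_left
    have cc : Commute (x⁻¹ * n * x * n⁻¹) x := by
      rw [hba] at cba
      have h7 : x * (x⁻¹ * (x⁻¹ * n * x * n⁻¹) * x) * x⁻¹ = x⁻¹ * n * x * n⁻¹ := by group
      have h8 : Commute (x * (x⁻¹ * (x⁻¹ * n * x * n⁻¹) * x) * x⁻¹) x :=
        ((Commute.refl x).mul_left cba).mul_left (Commute.refl x).inv_left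
      rwa [h7] at h8
    have h9 : n * (α n)⁻¹ = (x⁻¹ * n * x * n⁻¹)⁻¹ * a := by rw [ha]; group
    rw [h9]
    exact cc.inv_left.mul_left k1
  -- conjugates of `z s` commute with `x`
  have hzc : ∀ n ∈ N, ∀ s ∈ N, Commute (n * (s * (α s)⁻¹) * n⁻¹) x := by
    intro n hn s hs
    have h1 := hz (n * s) (N.mul_mem hn hs)
    have h3 : n * (s * (α s)⁻¹) * n⁻¹ = (n * s * (α (n * s))⁻¹) * (n * (α n)⁻¹)⁻¹ := by
      rw [map_mul]; group
    rw [h3]
    exact h1.mul_left (hz n hn).inv_left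
  obtain ⟨h, hhJ, hhx, hcm, hhz⟩ := exists_sqrt hx
  obtain ⟨i, hi⟩ := hhz
  intro n hn
  set w := n * x * n⁻¹ * x⁻¹ with hw
  set z := n * (α n)⁻¹ with hzd
  have hzx : Commute z x := hz n hn
  -- `w` commutes with `z`
  have hwz : Commute w z := by
    have h1 := hzc n⁻¹ (N.inv_mem hn) n hn
    have h3 : Commute z (n * x * n⁻¹) := by
      have h4 := h1.map (MulAut.conj n).toMonoidHom
      have e1 : (MulAut.conj n).toMonoidHom (n⁻¹ * (n * (α n)⁻¹) * n⁻¹⁻¹) = z := by
        change n * (n⁻¹ * (n * (α n)⁻¹) * n⁻¹⁻¹) * n⁻¹ = z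
        rw [hzd]; group
      rw [e1] at h4
      exact h4
    rw [hw]
    exact (h3.symm).mul_left (hzx.symm.inv_left)
  have hzh : Commute z h := by
    rw [← hi]; exact hzx.zpow_right i
  have hxh : Commute x h := by
    rw [← hi]; exact (Commute.refl x).zpow_right i
  have hαh : α h = h⁻¹ := hhJ.2
  have hαn : α n = z⁻¹ * n := by rw [hzd]; group
  -- `w z` commutes with `x`
  have hwzx : Commute (w * z) x := by
    have hn' : h⁻¹ * n * h ∈ N := by
      have := hNn.conj_mem n hn h⁻¹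
      simpa using this
    have h1 := hz _ hn'
    have h3 : h⁻¹ * n * h * (α (h⁻¹ * n * h))⁻¹ = h⁻¹ * (w * z) * h := by
      rw [map_mul, map_mul, map_inv, hαh, hαn, inv_inv]
      have h5 : z * h⁻¹ = h⁻¹ * z := hzh.inv_right.eq
      have h6 : z * x = x * z := hzx.eq
      calc h⁻¹ * n * h * (h * (z⁻¹ * n) * h⁻¹)⁻¹ = h⁻¹ * n * (h * h) * n⁻¹ * (z * h⁻¹) := by group
        _ = h⁻¹ * n * x * n⁻¹ * (h⁻¹ * z) := by rw [hhx, h5]
        _ = h⁻¹ * (n * x * n⁻¹ * x⁻¹) * (x * h⁻¹) * z := by group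
        _ = h⁻¹ * w * h * z := by rw [← hw, show x * h⁻¹ = h by rw [← hhx]; group]
        _ = h⁻¹ * w * (h * z) := by group
        _ = h⁻¹ * w * (z * h) := by rw [hzh.eq]
        _ = h⁻¹ * (w * z) * h := by group
    rw [h3] at h1
    have h7 : Commute (h * (h⁻¹ * (w * z) * h) * h⁻¹) x :=
      (hxh.symm.mul_left h1).mul_left hxh.symm.inv_left
    have h8 : h * (h⁻¹ * (w * z) * h) * h⁻¹ = w * z := by group
    rwa [h8] at h7
  have hwx : Commute w x := by
    have h9 : w = (w * z) * z⁻¹ := by group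
    rw [h9]
    exact hwzx.mul_left hzx.inv_left
  have hnx : n * x * n⁻¹ = w * x := by rw [hw]; group
  have hwinv : α w = w⁻¹ := by
    have h3 : n * x⁻¹ * n⁻¹ = x⁻¹ * w⁻¹ := by
      have : n * x⁻¹ * n⁻¹ = (n * x * n⁻¹)⁻¹ := by group
      rw [this, hnx, mul_inv_rev]
    have h1 : α w = z⁻¹ * (n * x⁻¹ * n⁻¹) * z * x := by
      rw [hw]
      simp only [map_mul, map_inv, hαn, hx.2, inv_inv, mul_inv_rev]
      group
    rw [h1, h3]
    have e1 : z⁻¹ * (x⁻¹ * w⁻¹) = (x⁻¹ * w⁻¹) * z⁻¹ :=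
      ((hzx.inv_left.inv_right).mul_right (hwz.symm.inv_left.inv_right)).eq
    rw [e1]
    have e2 : x⁻¹ * w⁻¹ = w⁻¹ * x⁻¹ := (hwx.symm.inv_left.inv_right).eq
    calc x⁻¹ * w⁻¹ * z⁻¹ * z * x = x⁻¹ * w⁻¹ * x := by group
      _ = w⁻¹ * x⁻¹ * x := by rw [e2]
      _ = w⁻¹ := by group
  have hwodd : Odd (orderOf w) := by
    apply Odd.of_dvd_nat hx.1
    apply orderOf_dvd_of_pow_eq_one
    have h1 : (w * x) ^ orderOf x = 1 := by
      rw [← hnx, conj_pow, pow_orderOf_eq_one]; group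
    rw [hwx.mul_pow, pow_orderOf_eq_one, mul_one] at h1
    exact h1
  have hwN : w ∈ N := by
    have h1 : w = n * (x * n⁻¹ * x⁻¹) := by rw [hw]; group
    rw [h1]
    exact N.mul_mem hn (hNn.conj_mem _ (N.inv_mem hn) x)
  have hxw : x * w ∈ J α := by
    refine ⟨?_, ?_⟩
    · exact Odd.of_dvd_nat (hx.1.mul hwodd) hwx.symm.orderOf_mul_dvd_mul_orderOf
    · rw [map_mul, hx.2, hwinv, ← mul_inv_rev, hwx.eq]
  have h3 : x * w = x := huniq _ hxw (by simpa using hwN)
  have hw1 : w = 1 := by simpa using h3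
  rw [hw1, one_mul] at hnx
  change n * x = x * n
  calc n * x = n * x * n⁻¹ * n := by group
    _ = x * n := by rw [hnx]

/-! ### Counting -/

/-- the elements of `J` in `N` -/
def JN (α : MulAut G) (N : Subgroup G) : Set G := {x | x ∈ J α ∧ x ∈ N}

theorem card_JN_le [Finite G] (N : Subgroup G) : Nat.card (JN α N) ≤ Nat.card (J α) :=
  Nat.card_le_card_of_injective (fun x : JN α N => (⟨x.1, x.2.1⟩ : J α))
    (fun _ _ h => Subtype.ext (congrArg (Subtype.val : J α → G) h))

theorem card_J_ra (h2 : ∀ x, α (α x) = x) (N : Subgroup G) (hN : ∀ x ∈ N, α x ∈ N) :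
    Nat.card (J (ra h2 N hN)) = Nat.card (JN α N) := by
  apply Nat.card_congr
  refine ⟨fun x => ⟨((x : N) : G), ⟨?_, congrArg (Subtype.val : N → G) x.2.2⟩, (x : N).2⟩,
    fun x => ⟨⟨x.1, x.2.2⟩, ?_, Subtype.ext x.2.1.2⟩, fun x => rfl, fun x => rfl⟩
  · rw [Subgroup.orderOf_coe]; exact x.2.1
  · rw [← Subgroup.orderOf_coe]; exact x.2.1.1

theorem one_mem_JN (N : Subgroup G) : (1 : G) ∈ JN α N := ⟨one_mem_J α, N.one_mem⟩

/-- an element with an odd power in a subgroup of odd order has odd order -/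
theorem odd_of_pow_mem [Finite G] {Q : Subgroup G} (hQ : Odd (Nat.card Q)) {y : G} {r : ℕ} (hr : Odd r)
    (hy : y ^ r ∈ Q) : Odd (orderOf y) := by
  apply Odd.of_dvd_nat (hr.mul hQ)
  apply orderOf_dvd_of_pow_eq_one
  rw [pow_mul]
  have h1 := pow_card_eq_one' (x := (⟨y ^ r, hy⟩ : Q))
  exact congrArg (Subtype.val : Q → G) h1

/-- `h j h ∈ J` for `h ∈ J` and `j ∈ J ∩ Q`, `Q` normal of odd order -/
theorem mul_mul_mem_J [Finite G] {Q : Subgroup G} (hQn : Q.Normal) (hQ : Odd (Nat.card Q)) {h j : G}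
    (hh : h ∈ J α) (hj : j ∈ J α) (hjQ : j ∈ Q) : h * j * h ∈ J α := by
  refine ⟨?_, ?_⟩
  · apply odd_of_pow_mem hQ hh.1
    rw [← QuotientGroup.eq_one_iff]
    have h1 : ((h * j * h : G) : G ⧸ Q) = (h * h : G) := by
      rw [QuotientGroup.eq]
      have := hQn.conj_mem j⁻¹ (Q.inv_mem hjQ) h⁻¹
      have e : (h * j * h)⁻¹ * (h * h) = h⁻¹ * j⁻¹ * h⁻¹⁻¹ := by group
      rw [e]; exact this
    have h3 : (((h * j * h) ^ orderOf h : G) : G ⧸ Q) = ((h * j * h : G) : G ⧸ Q) ^ orderOf h := rfl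
    rw [h3, h1]
    have h4 : ((h * h : G) : G ⧸ Q) ^ orderOf h = (((h * h) ^ orderOf h : G) : G ⧸ Q) := rfl
    rw [h4, (Commute.refl h).mul_pow, pow_orderOf_eq_one, one_mul]
    rfl
  · rw [map_mul, map_mul, hh.2, hj.2]; group

theorem card_J_mul_le [Finite G] (h2 : ∀ x, α (α x) = x) {N Q : Subgroup G} [N.Normal] (hQn : Q.Normal)
    (hQ : Odd (Nat.card Q)) (hQN : Q ≤ N) (hN : N.map α.toMonoidHom = N) :
    Nat.card (J (qa α N hN)) * Nat.card (JN α Q) ≤ Nat.card (J α) := by
  have hlift : ∀ x : J (qa α N hN), ∃ h : G, h ∈ J α ∧ ((h * h : G) : G ⧸ N) = x := by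
    rintro ⟨x, hx⟩
    obtain ⟨y, hy, rfl⟩ := exists_lift h2 hN hx
    obtain ⟨h, hh, hhy, _⟩ := exists_sqrt hy
    exact ⟨h, hh, by rw [hhy]⟩
  choose L hL1 hL2 using hlift
  rw [← Nat.card_prod]
  apply Nat.card_le_card_of_injective
    (fun p : J (qa α N hN) × JN α Q => (⟨L p.1 * p.2 * L p.1, mul_mul_mem_J hQn hQ (hL1 p.1) p.2.2.1 p.2.2.2⟩ : J α))
  have hproj : ∀ p : J (qa α N hN) × JN α Q, ((L p.1 * p.2 * L p.1 : G) : G ⧸ N) = p.1 := by
    intro p
    rw [← hL2 p.1, QuotientGroup.eq]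
    have h1 : (L p.1 * ↑p.2 * L p.1)⁻¹ * (L p.1 * L p.1) = (L p.1)⁻¹ * (↑p.2)⁻¹ * (L p.1)⁻¹⁻¹ := by group
    rw [h1]
    exact hQN (hQn.conj_mem _ (Q.inv_mem p.2.2.2) _)
  intro p q hpq
  have h1 : L p.1 * p.2 * L p.1 = L q.1 * q.2 * L q.1 := congrArg (Subtype.val : J α → G) hpq
  have h3 : p.1 = q.1 := by
    apply Subtype.ext
    rw [← hproj p, ← hproj q, h1]
  refine Prod.ext h3 (Subtype.ext ?_)
  rw [h3] at h1
  exact mul_left_cancel (mul_right_cancel h1)

/-- the elements of `J(G/N)` lifting to elements of `J` centralizing `N` -/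
def JC (α : MulAut G) (N : Subgroup G) [N.Normal] (hN : N.map α.toMonoidHom = N) : Set (G ⧸ N) :=
  {x | x ∈ J (qa α N hN) ∧ ∃ y ∈ J α, (y : G ⧸ N) = x ∧ ∀ n ∈ N, Commute n y}

theorem two_mul_card_J_le [Finite G] (h2 : ∀ x, α (α x) = x) {N : Subgroup G} [N.Normal]
    (hN : N.map α.toMonoidHom = N) :
    2 * Nat.card (J (qa α N hN)) ≤ Nat.card (J α) + Nat.card (JC α N hN) := by
  classical
  have hlift : ∀ x : J (qa α N hN), ∃ h : G, h ∈ J α ∧ (h : G ⧸ N) = x := by
    rintro ⟨x, hx⟩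
    obtain ⟨y, hy, rfl⟩ := exists_lift h2 hN hx
    exact ⟨y, hy, rfl⟩
  choose L hL1 hL2 using hlift
  have hsec : ∀ x : {x : J (qa α N hN) // (x : G ⧸ N) ∉ JC α N hN}, ∃ y : G, y ∈ J α ∧ (y : G ⧸ N) = x ∧ y ≠ L x := by
    rintro ⟨x, hx⟩
    by_contra hcon
    push Not at hcon
    apply hx
    refine ⟨x.2, L x, hL1 x, hL2 x, ?_⟩
    apply commute_of_unique h2 inferInstance (fun z hz => apply_mem_of hN hz) (hL1 x)
    intro y hy hxy
    apply hcon y hy
    rw [← QuotientGroup.eq, hL2] at hxy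
    exact hxy.symm
  choose M hM1 hM2 hM3 using hsec
  have h1 : Nat.card (J (qa α N hN)) = Nat.card {x : J (qa α N hN) // (x : G ⧸ N) ∈ JC α N hN} +
      Nat.card {x : J (qa α N hN) // (x : G ⧸ N) ∉ JC α N hN} := by
    rw [← Nat.card_sum]
    exact Nat.card_congr (Equiv.sumCompl (fun x : J (qa α N hN) => (x : G ⧸ N) ∈ JC α N hN)).symm
  have h3 : Nat.card {x : J (qa α N hN) // (x : G ⧸ N) ∈ JC α N hN} ≤ Nat.card (JC α N hN) := by
    apply Nat.card_le_card_of_injective
      (fun x : {x : J (qa α N hN) // (x : G ⧸ N) ∈ JC α N hN} => (⟨x.1.1, x.2⟩ : JC α N hN))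
    intro x y h
    apply Subtype.ext
    apply Subtype.ext
    have h4 := congrArg (Subtype.val : JC α N hN → G ⧸ N) h
    exact h4
  have h5 : Nat.card (J (qa α N hN)) + Nat.card {x : J (qa α N hN) // (x : G ⧸ N) ∉ JC α N hN} ≤
      Nat.card (J α) := by
    rw [← Nat.card_sum]
    apply Nat.card_le_card_of_injective
      (fun s : J (qa α N hN) ⊕ {x : J (qa α N hN) // (x : G ⧸ N) ∉ JC α N hN} =>
        (Sum.elim (fun x => (⟨L x, hL1 x⟩ : J α)) (fun x => (⟨M x, hM1 x⟩ : J α)) s))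
    rintro (x | x) (y | y) h
    · have h4 : L x = L y := congrArg (Subtype.val : J α → G) h
      have : x = y := by apply Subtype.ext; rw [← hL2 x, ← hL2 y, h4]
      rw [this]
    · exfalso
      have h4 : L x = M y := congrArg (Subtype.val : J α → G) h
      have h6 : x = y.1 := by apply Subtype.ext; rw [← hL2 x, ← hM2 y, h4]
      exact hM3 y (by rw [← h4, h6])
    · exfalso
      have h4 : M x = L y := congrArg (Subtype.val : J α → G) h
      have h6 : y = x.1 := by apply Subtype.ext; rw [← hL2 y, ← hM2 x, h4]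
      exact hM3 x (by rw [h4, h6])
    · have h4 : M x = M y := congrArg (Subtype.val : J α → G) h
      have : x = y := by
        apply Subtype.ext
        apply Subtype.ext
        rw [← hM2 x, ← hM2 y, h4]
      rw [this]
  omega

theorem card_JN_mul_le [Finite G] {C K : Subgroup G} (hCK : C ⊓ K = ⊥)
    (hcomm : ∀ c ∈ C, ∀ k ∈ K, Commute c k) :
    Nat.card (JN α C) * Nat.card (JN α K) ≤ Nat.card (J α) := by
  rw [← Nat.card_prod]
  apply Nat.card_le_card_of_injective
    (fun p : JN α C × JN α K => (⟨p.1.1 * p.2.1, by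
      have hc := hcomm _ p.1.2.2 _ p.2.2.2
      refine ⟨Odd.of_dvd_nat (p.1.2.1.1.mul p.2.2.1.1) hc.orderOf_mul_dvd_mul_orderOf, ?_⟩
      rw [map_mul, p.1.2.1.2, p.2.2.1.2, ← mul_inv_rev, hc.eq]⟩ : J α))
  intro p q hpq
  have h1 : p.1.1 * p.2.1 = q.1.1 * q.2.1 := congrArg (Subtype.val : J α → G) hpq
  have h3 : q.1.1⁻¹ * p.1.1 = q.2.1 * p.2.1⁻¹ := by
    calc q.1.1⁻¹ * p.1.1 = q.1.1⁻¹ * (p.1.1 * p.2.1) * p.2.1⁻¹ := by group
      _ = q.1.1⁻¹ * (q.1.1 * q.2.1) * p.2.1⁻¹ := by rw [h1]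
      _ = q.2.1 * p.2.1⁻¹ := by group
  have h4 : q.1.1⁻¹ * p.1.1 ∈ C ⊓ K :=
    ⟨C.mul_mem (C.inv_mem q.1.2.2) p.1.2.2, by rw [h3]; exact K.mul_mem q.2.2.2 (K.inv_mem p.2.2.2)⟩
  rw [hCK, Subgroup.mem_bot] at h4
  refine Prod.ext (Subtype.ext ?_) (Subtype.ext ?_)
  · exact (inv_mul_eq_one.1 h4).symm
  · rw [h4] at h3
    exact (mul_inv_eq_one.1 h3.symm).symm

/-- `|G| = |J| |fixed|` for `G` of odd order -/
theorem card_odd [Finite G] (h2 : ∀ x, α (α x) = x) (hodd : Odd (Nat.card G)) :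
    Nat.card G = Nat.card (J α) * Nat.card (fixed α) := by
  rw [card_eq_mul (α := α)]
  congr 1
  apply Nat.card_congr
  refine Equiv.subtypeEquivRight ?_
  intro x
  constructor
  · rintro ⟨g, rfl⟩
    exact ⟨Odd.of_dvd_nat hodd (orderOf_dvd_natCard _), cm_inv h2 g⟩
  · intro hx
    exact J_subset_range hx

theorem card_fixed_ra_le [Finite G] (h2 : ∀ x, α (α x) = x) (N : Subgroup G) (hN : ∀ x ∈ N, α x ∈ N) :
    Nat.card (fixed (ra h2 N hN)) ≤ Nat.card (fixed α) := by
  apply Nat.card_le_card_of_injective (fun x : fixed (ra h2 N hN) =>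
    (⟨((x : N) : G), congrArg (Subtype.val : N → G) x.2⟩ : fixed α))
  intro x y h
  apply Subtype.ext
  apply Subtype.ext
  have h3 := congrArg (Subtype.val : fixed α → G) h
  exact h3

/-- `|Q| ≤ |J ∩ Q| |fixed|` for `Q` of odd order -/
theorem card_odd_sub_le [Finite G] (h2 : ∀ x, α (α x) = x) {Q : Subgroup G} (hQi : ∀ x ∈ Q, α x ∈ Q)
    (hQ : Odd (Nat.card Q)) : Nat.card Q ≤ Nat.card (JN α Q) * Nat.card (fixed α) := by
  rw [card_odd (ra_ra h2 Q hQi) hQ, card_J_ra h2 Q hQi]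
  exact Nat.mul_le_mul le_rfl (card_fixed_ra_le h2 Q hQi)

/-- the number of fixed points does not grow in quotients -/
theorem card_fixed_qa_le [Finite G] {N : Subgroup G} [N.Normal] (hN : N.map α.toMonoidHom = N) :
    Nat.card (fixed (qa α N hN)) ≤ Nat.card (fixed α) := by
  have h1 := card_eq_mul (α := α)
  have h3 := card_eq_mul (α := qa α N hN)
  -- `|range cm| ≤ |N| |range cm on the quotient|`
  have h4 : Nat.card (Set.range (cm α)) ≤ Nat.card N * Nat.card (Set.range (cm (qa α N hN))) := by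
    have hL : ∀ x : Set.range (cm (qa α N hN)), ∃ y : G, (y : G ⧸ N) = x := fun x => QuotientGroup.mk_surjective _
    choose L hL using hL
    rw [← Nat.card_prod]
    have hmem : ∀ y : Set.range (cm α), ((y : G) : G ⧸ N) ∈ Set.range (cm (qa α N hN)) := by
      rintro ⟨_, g, rfl⟩
      exact ⟨(g : G ⧸ N), rfl⟩
    apply Nat.card_le_card_of_injective (fun y : Set.range (cm α) =>
      ((⟨(L ⟨_, hmem y⟩)⁻¹ * y, by rw [← QuotientGroup.eq, hL]⟩ : N),
        (⟨_, hmem y⟩ : Set.range (cm (qa α N hN)))))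
    intro x y hxy
    have h5 := congrArg Prod.snd hxy
    have h6 := congrArg (fun p : N × Set.range (cm (qa α N hN)) => (p.1 : G)) hxy
    simp only at h5 h6
    rw [h5] at h6
    exact Subtype.ext (mul_left_cancel h6)
  have h5 : Nat.card G = Nat.card N * Nat.card (G ⧸ N) := (Subgroup.card_mul_index N).symm
  have hr : 0 < Nat.card (Set.range (cm (qa α N hN))) := by
    have : Nonempty (Set.range (cm (qa α N hN))) := ⟨⟨_, 1, rfl⟩⟩
    exact Nat.card_pos
  have hN0 : 0 < Nat.card N := Nat.card_pos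
  have h6 : (Nat.card N * Nat.card (Set.range (cm (qa α N hN)))) * Nat.card (fixed (qa α N hN)) ≤
      (Nat.card N * Nat.card (Set.range (cm (qa α N hN)))) * Nat.card (fixed α) := by
    calc (Nat.card N * Nat.card (Set.range (cm (qa α N hN)))) * Nat.card (fixed (qa α N hN))
        = Nat.card N * (Nat.card (Set.range (cm (qa α N hN))) * Nat.card (fixed (qa α N hN))) := by ring
      _ = Nat.card G := by rw [← h3, h5]
      _ = Nat.card (Set.range (cm α)) * Nat.card (fixed α) := h1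
      _ ≤ _ := Nat.mul_le_mul h4 le_rfl
  exact Nat.le_of_mul_le_mul_left h6 (Nat.mul_pos hN0 hr)

/-- a normal subgroup fixed pointwise is central when `[G, α] = G` -/
theorem le_center_of_fixed (hG : Full α) {N : Subgroup G} (hNn : N.Normal) (hfix : ∀ n ∈ N, α n = n) :
    N ≤ Subgroup.center G := by
  intro n hn
  rw [Subgroup.mem_center_iff]
  have h1 : Subgroup.closure (Set.range (fun c : G => c * (α c)⁻¹)) ≤ Subgroup.centralizer {n} := by
    rw [Subgroup.closure_le]
    rintro _ ⟨c, rfl⟩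
    rw [SetLike.mem_coe, Subgroup.mem_centralizer_singleton_iff]
    have h3 := hfix _ (hNn.conj_mem n hn c⁻¹)
    have hn' := hfix n hn
    rw [map_mul, map_mul, map_inv, map_inv, hn', map_inv, inv_inv, inv_inv] at h3
    -- `α(c)⁻¹ n α(c) = c⁻¹ n c`
    calc c * (α c)⁻¹ * n = c * ((α c)⁻¹ * n * α c) * (α c)⁻¹ := by group
      _ = c * (c⁻¹ * n * c) * (α c)⁻¹ := by rw [h3]
      _ = n * (c * (α c)⁻¹) := by group
  have hG' := hG
  rw [Full] at hG'
  rw [hG'] at h1
  intro g
  exact Subgroup.mem_centralizer_singleton_iff.1 (h1 (Subgroup.mem_top g))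

/-- `|J ∩ N| ≥ 3` as soon as `J ∩ N` has a non-trivial element -/
theorem three_le_card_JN [Finite G] {N : Subgroup G} {x : G} (hx : x ∈ JN α N) (hx1 : x ≠ 1) :
    3 ≤ Nat.card (JN α N) := by
  have hxi : x⁻¹ ≠ x := by
    intro h
    have h3 : x ^ 2 = 1 := by
      rw [pow_two]
      nth_rewrite 1 [← h]
      exact inv_mul_cancel x
    have h4 := (Nat.dvd_prime Nat.prime_two).1 (orderOf_dvd_of_pow_eq_one h3)
    rcases h4 with h4 | h4
    · exact hx1 (orderOf_eq_one_iff.1 h4)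
    · have := hx.1.1
      rw [h4] at this
      exact absurd this (by decide)
  have h1 : ({1, x, x⁻¹} : Set G).ncard = 3 := by
    rw [Set.ncard_eq_three]
    refine ⟨1, x, x⁻¹, hx1.symm, ?_, hxi.symm, rfl⟩
    intro h
    exact hx1 (inv_eq_one.1 h.symm)
  have h3 : ({1, x, x⁻¹} : Set G) ⊆ JN α N := by
    intro y hy
    simp only [Set.mem_insert_iff, Set.mem_singleton_iff] at hy
    rcases hy with rfl | rfl | rfl
    · exact one_mem_JN N
    · exact hx
    · exact ⟨inv_mem_J α hx.1, N.inv_mem hx.2⟩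
  have h4 := Set.ncard_le_ncard h3 (Set.toFinite _)
  rw [h1] at h4
  exact h4

/-- either `|J ∩ Q| ≥ 3` or `α` fixes the odd order group `Q` pointwise -/
theorem odd_dichotomy [Finite G] (h2 : ∀ x, α (α x) = x) {Q : Subgroup G} (hQi : ∀ x ∈ Q, α x ∈ Q)
    (hQ : Odd (Nat.card Q)) : 3 ≤ Nat.card (JN α Q) ∨ ∀ q ∈ Q, α q = q := by
  by_cases h : ∃ x ∈ JN α Q, x ≠ 1
  · obtain ⟨x, hx, hx1⟩ := h
    exact Or.inl (three_le_card_JN hx hx1)
  · right
    push Not at h
    intro q hq
    have h1 : q * (α q)⁻¹ ∈ JN α Q := by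
      refine ⟨⟨?_, cm_inv h2 q⟩, Q.mul_mem hq (Q.inv_mem (hQi q hq))⟩
      have h3 : q * (α q)⁻¹ ∈ Q := Q.mul_mem hq (Q.inv_mem (hQi q hq))
      have h4 : orderOf (q * (α q)⁻¹) ∣ Nat.card Q := by
        have := orderOf_dvd_natCard (⟨_, h3⟩ : Q)
        rwa [← Subgroup.orderOf_coe] at this
      exact Odd.of_dvd_nat hQ h4
    have h5 := h _ h1
    exact (mul_inv_eq_one.1 h5).symm

end

end Cfsg.Agent.H481.Inv
end

-- part: H481/PermInv
section
set_option linter.all false
open scoped Cfsg.Agent.FastGrp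

/-!
# `α` has at most `(|J| - 1)‼` fixed points on `G / Z(G)`

The elements of `G / Z(G)` fixed by `α` act faithfully on `J`, commuting with the inversion of `J`.
-/

set_option autoImplicit false

namespace Cfsg.Agent.H481.Inv

open Cfsg Nat

universe u

/-- the centralizer in the symmetric group of an involution with exactly one fixed point -/
theorem card_centralizer_involution {Ω : Type u} [Finite Ω] (ι : Equiv.Perm Ω) (h2 : ι * ι = 1) (h1 : ι ≠ 1)
    (o : Ω) (hfix : ∀ x, ι x = x ↔ x = o) :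
    ∃ k, 0 < k ∧ Nat.card Ω = 2 * k + 1 ∧ Nat.card (Subgroup.centralizer {ι}) = (2 * k)‼ := by
  classical
  have := Fintype.ofFinite Ω
  have hord : orderOf ι = 2 := orderOf_eq_prime (by rw [pow_two, h2]) h1
  obtain ⟨n, hn⟩ := Equiv.Perm.cycleType_prime_order (σ := ι) (by rw [hord]; exact Nat.prime_two)
  rw [hord] at hn
  have hs : ι.support.card = 2 * (n + 1) := by
    rw [← Equiv.Perm.sum_cycleType, hn, Multiset.sum_replicate, smul_eq_mul, mul_comm]
  have hsup : ι.support = Finset.univ.erase o := by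
    ext x
    rw [Equiv.Perm.mem_support, Finset.mem_erase, ne_eq, hfix]
    simp
  have hcard : Fintype.card Ω = 2 * (n + 1) + 1 := by
    rw [hsup, Finset.card_erase_of_mem (Finset.mem_univ o), Finset.card_univ] at hs
    have : 0 < Fintype.card Ω := Fintype.card_pos_iff.2 ⟨o⟩
    omega
  refine ⟨n + 1, Nat.succ_pos _, by rw [Nat.card_eq_fintype_card, hcard], ?_⟩
  rw [Equiv.Perm.nat_card_centralizer, hn, hcard, Multiset.sum_replicate, Multiset.prod_replicate,
    Multiset.toFinset_replicate]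
  simp only [Nat.add_eq_zero_iff, one_ne_zero, and_false, if_false, Finset.prod_singleton,
    Multiset.count_replicate_self, smul_eq_mul]
  rw [show 2 * (n + 1) + 1 - (n + 1) * 2 = 1 by omega, Nat.factorial_one, one_mul, Nat.doubleFactorial_two_mul]

section

variable {G : Type u} [Group G] {α : MulAut G}

/-- the inversion of `J` -/
def invJ (α : MulAut G) : Equiv.Perm (J α) where
  toFun x := ⟨x⁻¹, inv_mem_J α x.2⟩
  invFun x := ⟨x⁻¹, inv_mem_J α x.2⟩
  left_inv x := Subtype.ext (inv_inv _)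
  right_inv x := Subtype.ext (inv_inv _)

theorem eq_one_of_inv_eq {x : G} (hx : x ∈ J α) (h : x⁻¹ = x) : x = 1 := by
  have h3 : x ^ 2 = 1 := by
    rw [pow_two]
    nth_rewrite 1 [← h]
    exact inv_mul_cancel x
  have h4 := (Nat.dvd_prime Nat.prime_two).1 (orderOf_dvd_of_pow_eq_one h3)
  rcases h4 with h4 | h4
  · exact orderOf_eq_one_iff.1 h4
  · have := hx.1
    rw [h4] at this
    exact absurd this (by decide)

theorem exists_ne_one [Finite G] [Nontrivial G] (h2 : ∀ x, α (α x) = x) (hG : Full α) : ∃ x ∈ J α, x ≠ 1 := by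
  by_contra hcon
  push Not at hcon
  have h1 := closure_J h2 hG
  have h3 : Subgroup.closure (J α) ≤ ⊥ := by
    rw [Subgroup.closure_le]
    intro x hx
    exact Subgroup.mem_bot.2 (hcon x hx)
  rw [h1] at h3
  exact bot_ne_top (le_antisymm bot_le h3)

/-- the centralizer of the inversion in the symmetric group on `J` -/
theorem card_centralizer_invJ [Finite G] {x : G} (hx : x ∈ J α) (hx1 : x ≠ 1) :
    ∃ k, 0 < k ∧ Nat.card (J α) = 2 * k + 1 ∧ Nat.card (Subgroup.centralizer {invJ α}) = (2 * k)‼ := by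
  apply card_centralizer_involution (invJ α) ?_ ?_ ⟨1, one_mem_J α⟩ ?_
  · ext y
    exact inv_inv _
  · intro h
    have h1 := congrArg (fun f : Equiv.Perm (J α) => ((f ⟨x, hx⟩ : J α) : G)) h
    exact hx1 (eq_one_of_inv_eq hx h1)
  · intro y
    constructor
    · intro h
      have h1 : (y : G)⁻¹ = y := congrArg (Subtype.val : J α → G) h
      exact Subtype.ext (eq_one_of_inv_eq y.2 h1)
    · rintro rfl
      exact Subtype.ext (inv_one)

/-- conjugation on `J` by an element fixed modulo the centre -/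
noncomputable def conjJ [Finite G] (g : G) (hg : (α g)⁻¹ * g ∈ Subgroup.center G) : Equiv.Perm (J α) :=
  Equiv.ofBijective (fun y : J α => (⟨g * y * g⁻¹, conj_mem_J hg y.2⟩ : J α))
    (Finite.injective_iff_bijective.1 (fun y z h => by
      have h1 := congrArg (Subtype.val : J α → G) h
      exact Subtype.ext (by simpa using h1)))

theorem conjJ_mem [Finite G] (g : G) (hg : (α g)⁻¹ * g ∈ Subgroup.center G) :
    conjJ g hg ∈ Subgroup.centralizer {invJ α} := by
  rw [Subgroup.mem_centralizer_singleton_iff]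
  ext y
  change g * (y : G)⁻¹ * g⁻¹ = (g * y * g⁻¹)⁻¹
  group

/-- `ᾱ` has at most `(|J α| - 1)‼` fixed points on `G / Z(G)` -/
theorem fixed_center_le' [Finite G] [Nontrivial G] (h2 : ∀ x, α (α x) = x) (hG : Full α) :
    ∃ k, 0 < k ∧ Nat.card (J α) = 2 * k + 1 ∧
      Nat.card (fixed (qa α (Subgroup.center G) (center_map h2))) ≤ (2 * k)‼ := by
  obtain ⟨x, hx, hx1⟩ := exists_ne_one h2 hG
  obtain ⟨k, hk0, hk, hc⟩ := card_centralizer_invJ hx hx1
  refine ⟨k, hk0, hk, ?_⟩
  have hout : ∀ x : fixed (qa α (Subgroup.center G) (center_map h2)),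
      (α (Quotient.out (x : G ⧸ Subgroup.center G)))⁻¹ * Quotient.out (x : G ⧸ Subgroup.center G) ∈
        Subgroup.center G := by
    intro x
    rw [← QuotientGroup.eq]
    have h1 := x.2
    rw [mem_fixed] at h1
    have h3 : ((Quotient.out (x : G ⧸ Subgroup.center G) : G) : G ⧸ Subgroup.center G) = x :=
      QuotientGroup.out_eq' _
    rw [← qa_mk (center_map h2), h3, h1]
  rw [← hc]
  apply Nat.card_le_card_of_injective (fun x : fixed (qa α (Subgroup.center G) (center_map h2)) =>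
    (⟨conjJ _ (hout x), conjJ_mem _ (hout x)⟩ : Subgroup.centralizer {invJ α}))
  intro x y hxy
  apply Subtype.ext
  rw [← QuotientGroup.out_eq' (x : G ⧸ Subgroup.center G), ← QuotientGroup.out_eq' (y : G ⧸ Subgroup.center G),
    QuotientGroup.eq]
  apply mem_center_of_commute h2 hG
  intro z hz
  have h1 := congrArg (fun f : Subgroup.centralizer {invJ α} =>
    (((f : Equiv.Perm (J α)) ⟨z, hz⟩ : J α) : G)) hxy
  change Quotient.out (x : G ⧸ Subgroup.center G) * z * (Quotient.out (x : G ⧸ Subgroup.center G))⁻¹ =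
    Quotient.out (y : G ⧸ Subgroup.center G) * z * (Quotient.out (y : G ⧸ Subgroup.center G))⁻¹ at h1
  set a := Quotient.out (x : G ⧸ Subgroup.center G)
  set b := Quotient.out (y : G ⧸ Subgroup.center G)
  calc z * (a⁻¹ * b) = a⁻¹ * (a * z * a⁻¹) * b := by group
    _ = a⁻¹ * (b * z * b⁻¹) * b := by rw [h1]
    _ = a⁻¹ * b * z := by group

end

end Cfsg.Agent.H481.Inv
end

-- part: H481/ElemAb
section
set_option linter.all false
open scoped Cfsg.Agent.FastGrp

/-!
# Elementary abelian `2`-groups acting faithfully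

`card_sq_le` : `|E|² ≤ 2 ^ |Ω|` for an elementary abelian `2`-group `E` acting faithfully on `Ω`.
`card_le_of_sub` : an elementary abelian `2`-subgroup `A`, invariant under `α`, of a centreless group `G = [G, α]`
has order at most `2 ^ (|J| - 1)`.
-/

set_option autoImplicit false

namespace Cfsg.Agent.H481.Inv

open Cfsg

universe u v

theorem sq_le_two_pow_of_pow_two (a : ℕ) : (2 ^ a) ^ 2 ≤ 2 ^ (2 ^ a) := by
  rw [← pow_mul]
  apply Nat.pow_le_pow_right (by norm_num)
  rcases a with _ | _ | a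
  · norm_num
  · norm_num
  · have h : a + 2 < 2 ^ (a + 2) := Nat.lt_two_pow_self
    have h1 : a + 2 ≤ 2 ^ (a + 1) := by
      have : a + 1 < 2 ^ (a + 1) := Nat.lt_two_pow_self
      omega
    calc (a + 1 + 1) * 2 ≤ 2 ^ (a + 1) * 2 := by omega
      _ = 2 ^ (a + 1 + 1) := by rw [← pow_succ]

theorem card_sq_le (E : Type u) (Ω : Type v) [Group E] [Finite E] [Finite Ω] [MulAction E Ω]
    [FaithfulSMul E Ω] (h2 : ∀ e : E, e * e = 1) : Nat.card E ^ 2 ≤ 2 ^ Nat.card Ω := by
  classical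
  have hcomm : ∀ a b : E, a * b = b * a := by
    intro a b
    have h1 := h2 (a * b)
    have ha : a⁻¹ = a := inv_eq_of_mul_eq_one_left (h2 a)
    have hb : b⁻¹ = b := inv_eq_of_mul_eq_one_left (h2 b)
    have h3 : a * b = (a * b)⁻¹ := (inv_eq_of_mul_eq_one_left h1).symm
    rw [h3, mul_inv_rev, ha, hb]
  have hp : IsPGroup 2 E := fun e => ⟨1, by rw [pow_one, pow_two]; exact h2 e⟩
  have hF : Fact (Nat.Prime 2) := ⟨Nat.prime_two⟩
  have := Fintype.ofFinite (MulAction.orbitRel.Quotient E Ω)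
  have h1 : Nat.card E ≤ ∏ ω : MulAction.orbitRel.Quotient E Ω, Nat.card ω.orbit := by
    rw [← Nat.card_pi]
    apply Nat.card_le_card_of_injective
      (fun e : E => fun ω : MulAction.orbitRel.Quotient E Ω => (⟨e • ω.out, by
        rw [MulAction.orbitRel.Quotient.mem_orbit]
        rw [show (Quotient.mk'' (e • ω.out) : MulAction.orbitRel.Quotient E Ω) = Quotient.mk'' ω.out from
          Quotient.sound' (MulAction.orbitRel_apply.2 (MulAction.mem_orbit _ _))]
        exact Quotient.out_eq' ω⟩ : ω.orbit))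
    intro e f hef
    apply eq_of_smul_eq_smul (α := Ω)
    intro x
    -- `x = g • out`
    set ω : MulAction.orbitRel.Quotient E Ω := Quotient.mk'' x with hω
    have h3 : MulAction.orbitRel E Ω ω.out x := Quotient.exact' (Quotient.out_eq' ω)
    rw [MulAction.orbitRel_apply] at h3
    obtain ⟨g, hg⟩ := MulAction.mem_orbit_symm.1 h3
    have h4 : e • ω.out = f • ω.out := congrArg (fun k => ((k ω : ω.orbit) : Ω)) hef
    rw [← hg]
    change e • g • ω.out = f • g • ω.out
    rw [smul_smul, smul_smul, hcomm e g, hcomm f g, ← smul_smul, ← smul_smul, h4]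
  have h3 : ∀ ω : MulAction.orbitRel.Quotient E Ω, Nat.card ω.orbit ^ 2 ≤ 2 ^ Nat.card ω.orbit := by
    intro ω
    have h4 : ω.orbit = MulAction.orbit E ω.out := MulAction.orbitRel.Quotient.orbit_eq_orbit_out ω Quotient.out_eq'
    obtain ⟨n, hn⟩ := hp.card_orbit (ω.out)
    rw [h4, hn]
    exact sq_le_two_pow_of_pow_two n
  have h4 : Nat.card Ω = ∑ ω : MulAction.orbitRel.Quotient E Ω, Nat.card ω.orbit := by
    rw [← Nat.card_sigma]
    exact Nat.card_congr (MulAction.selfEquivSigmaOrbits' E Ω)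
  rw [h4, ← Finset.prod_pow_eq_pow_sum]
  calc Nat.card E ^ 2 ≤ (∏ ω : MulAction.orbitRel.Quotient E Ω, Nat.card ω.orbit) ^ 2 := by gcongr
    _ = ∏ ω : MulAction.orbitRel.Quotient E Ω, Nat.card ω.orbit ^ 2 := by rw [Finset.prod_pow]
    _ ≤ _ := Finset.prod_le_prod (fun _ _ => Nat.zero_le _) (fun ω _ => h3 ω)

section

variable {G : Type u} [Group G] {α : MulAut G}

/-- an elementary abelian `2`-group of fixed points is small -/
theorem card_sq_le_of_fixed [Finite G] (h2 : ∀ x, α (α x) = x) (hG : Full α)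
    (hZ : Subgroup.center G = ⊥) (A : Subgroup G) (hA : ∀ a ∈ A, α a = a) (hsq : ∀ a ∈ A, a * a = 1) :
    Nat.card A ^ 2 ≤ 2 ^ (Nat.card (J α) - 1) := by
  classical
  let Ω := {x : J α // (x : G) ≠ 1}
  have hmem : ∀ (a : A) (x : Ω), (a : G) * (x : J α) * (a : G)⁻¹ ∈ J α := by
    intro a x
    apply conj_mem_J _ (x : J α).2
    rw [hA a a.2, inv_mul_cancel]
    exact Subgroup.one_mem _
  let _ : MulAction A Ω :=
    { smul := fun a x => ⟨⟨(a : G) * (x : J α) * (a : G)⁻¹, hmem a x⟩, by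
        intro h
        apply x.2
        have h3 : (a : G) * (x : J α) * (a : G)⁻¹ = 1 := h
        have h4 : ((x : J α) : G) = (a : G)⁻¹ * ((a : G) * (x : J α) * (a : G)⁻¹) * a := by group
        rw [h4, h3]; group⟩
      one_smul := fun x => by
        apply Subtype.ext
        apply Subtype.ext
        change ((1 : A) : G) * (x : J α) * ((1 : A) : G)⁻¹ = (x : J α)
        simp
      mul_smul := fun a b x => by
        apply Subtype.ext
        apply Subtype.ext
        change ((a * b : A) : G) * (x : J α) * ((a * b : A) : G)⁻¹ =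
          (a : G) * ((b : G) * (x : J α) * (b : G)⁻¹) * (a : G)⁻¹
        rw [Subgroup.coe_mul]; group }
  have hsmul : ∀ (a : A) (x : Ω), (((a • x : Ω) : J α) : G) = (a : G) * (x : J α) * (a : G)⁻¹ := fun _ _ => rfl
  have : FaithfulSMul A Ω := ⟨by
    intro a b hab
    have h1 : (a : G)⁻¹ * b ∈ Subgroup.center G := by
      apply mem_center_of_commute h2 hG
      intro x hx
      by_cases hx1 : x = 1
      · rw [hx1]; simp
      · have h3 := congrArg (fun t : Ω => ((t : J α) : G)) (hab ⟨⟨x, hx⟩, hx1⟩)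
        simp only [hsmul] at h3
        calc x * ((a : G)⁻¹ * b) = (a : G)⁻¹ * (a * x * (a : G)⁻¹) * b := by group
          _ = (a : G)⁻¹ * (b * x * (b : G)⁻¹) * b := by rw [h3]
          _ = (a : G)⁻¹ * b * x := by group
    rw [hZ, Subgroup.mem_bot] at h1
    exact Subtype.ext (inv_mul_eq_one.1 h1)⟩
  have h3 := card_sq_le A Ω (fun e => Subtype.ext (hsq e e.2))
  have h4 : Nat.card Ω = Nat.card (J α) - 1 := by
    have h5 : Nat.card (J α) = Nat.card {x : J α // (x : G) = 1} + Nat.card Ω := by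
      rw [← Nat.card_sum]
      exact Nat.card_congr (Equiv.sumCompl (fun x : J α => (x : G) = 1)).symm
    have h6 : Nat.card {x : J α // (x : G) = 1} = 1 := by
      rw [Nat.card_eq_one_iff_unique]
      refine ⟨⟨fun x y => Subtype.ext (Subtype.ext (x.2.trans y.2.symm))⟩, ⟨⟨⟨1, one_mem_J α⟩, rfl⟩⟩⟩
    omega
  rwa [h4] at h3

/-- an `α`-invariant elementary abelian `2`-subgroup of a centreless group is small -/
theorem card_le_of_sub [Finite G] (h2 : ∀ x, α (α x) = x) (hG : Full α)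
    (hZ : Subgroup.center G = ⊥) (A : Subgroup G) (hA : ∀ a ∈ A, α a ∈ A) (hsq : ∀ a ∈ A, a * a = 1) :
    Nat.card A ≤ 2 ^ (Nat.card (J α) - 1) := by
  -- the fixed points in `A`
  have h1 := card_sq_le_of_fixed h2 hG hZ (A ⊓ fixed α) (fun a ha => ha.2) (fun a ha => hsq a ha.1)
  refine le_trans ?_ h1
  have h3 := card_eq_mul (α := ra h2 A hA)
  have h4 : Nat.card (fixed (ra h2 A hA)) ≤ Nat.card (A ⊓ fixed α : Subgroup G) := by
    apply Nat.card_le_card_of_injective (fun x : fixed (ra h2 A hA) =>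
      (⟨((x : A) : G), (x : A).2, congrArg (Subtype.val : A → G) x.2⟩ : (A ⊓ fixed α : Subgroup G)))
    intro x y h
    apply Subtype.ext
    apply Subtype.ext
    have h3 := congrArg (Subtype.val : (A ⊓ fixed α : Subgroup G) → G) h
    exact h3
  have h5 : Nat.card (Set.range (cm (ra h2 A hA))) ≤ Nat.card (A ⊓ fixed α : Subgroup G) := by
    apply Nat.card_le_card_of_injective (fun x : Set.range (cm (ra h2 A hA)) =>
      (⟨((x : A) : G), (x : A).2, ?_⟩ : (A ⊓ fixed α : Subgroup G)))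
    · intro x y h
      apply Subtype.ext
      apply Subtype.ext
      have h3 := congrArg (Subtype.val : (A ⊓ fixed α : Subgroup G) → G) h
      exact h3
    · obtain ⟨x, ⟨c, hc⟩⟩ := x
      have h5 : α (x : G) = (x : G)⁻¹ := by
        have h6 := cm_inv (ra_ra h2 A hA) c
        rw [hc] at h6
        exact congrArg Subtype.val h6
      change α (x : G) = x
      rw [h5]
      exact (eq_inv_of_mul_eq_one_left (hsq x x.2)).symm
  rw [h3, pow_two]
  exact Nat.mul_le_mul h5 h4

end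

end Cfsg.Agent.H481.Inv
end

-- part: H481/SolPart
section
set_option linter.all false
open scoped Cfsg.Agent.FastGrp

/-!
# The odd part of the Fitting subgroup

`Qf Y = O_{2'}(F(Y))`. `inf_centralizer_le` : `C_Y(Q) ∩ O_{2'...}`; `card_pCore_le` : `|O_2(Y/F(Y))| ≤ |Q|²`, given the
bound for `2`-groups of automorphisms of nilpotent groups of odd order.
-/

set_option autoImplicit false

namespace Cfsg.Agent.H481.SolPart

open Cfsg Subgroup Cfsg.Agent.Lib.Cores

universe u

variable {Y : Type u} [Group Y]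

theorem fitting_le_sup [Finite Y] (p : ℕ) [Fact p.Prime] :
    fittingSubgroup Y ≤ pCore p Y ⊔ (fittingSubgroup Y ⊓ pPrimeCore p Y) := by
  conv_lhs => rw [fittingSubgroup_eq_iSup_pCore]
  refine iSup_le fun q => ?_
  have := Fact.mk q.2
  by_cases hq : (q : ℕ) = p
  · rw [hq]; exact le_sup_left
  · refine le_trans (le_inf ?_ ?_) le_sup_right
    · exact pCore_le_fittingSubgroup _
    · apply le_pPrimeCore (pCore_normal _)
      obtain ⟨n, hn⟩ := IsPGroup.iff_card.mp (pCore_isPGroup (G := Y) (q : ℕ))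
      rw [hn]
      exact Nat.Coprime.pow_left _ ((Nat.coprime_primes q.2 Fact.out).mpr hq)

variable (Y) in
/-- `O_{2'}(F(Y))` -/
def Qf : Subgroup Y := fittingSubgroup Y ⊓ pPrimeCore 2 Y

theorem Qf_normal : (Qf Y).Normal := by
  have h1 := fittingSubgroup_normal (G := Y)
  have h2 := pPrimeCore_normal (G := Y) 2
  exact normal_inf_normal _ _

theorem Qf_le : Qf Y ≤ fittingSubgroup Y := inf_le_left

theorem Qf_odd [Finite Y] : Odd (Nat.card (Qf Y)) := by
  have h1 := pPrimeCore_coprime (G := Y) 2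
  have h2 : (Nat.card (Qf Y)).Coprime 2 := h1.coprime_dvd_left (card_dvd_of_le inf_le_right)
  exact Nat.coprime_two_right.1 h2

theorem Qf_nilpotent [Finite Y] : Group.IsNilpotent (Qf Y) :=
  (le_fittingSubgroup_iff Qf_normal).1 Qf_le

theorem apply_mem_fitting (e : Y ≃* Y) {x : Y} (hx : x ∈ fittingSubgroup Y) : e x ∈ fittingSubgroup Y := by
  rw [← map_equiv_fittingSubgroup e]
  exact ⟨x, hx, rfl⟩

theorem apply_mem_Qf (e : Y ≃* Y) {x : Y} (hx : x ∈ Qf Y) : e x ∈ Qf Y := by
  refine ⟨apply_mem_fitting e hx.1, ?_⟩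
  rw [← map_equiv_pPrimeCore e 2]
  exact ⟨x, hx.2, rfl⟩

theorem exists_pow_mem_Qf [Finite Y] {x : Y} (hx : x ∈ fittingSubgroup Y) : ∃ k : ℕ, x ^ 2 ^ k ∈ Qf Y := by
  have hF : Fact (Nat.Prime 2) := ⟨Nat.prime_two⟩
  have hQ := Qf_normal (Y := Y)
  have h1 := fitting_le_sup 2 hx
  obtain ⟨p, hp, q, hq, rfl⟩ := mem_sup_of_normal_right.1 h1
  obtain ⟨k, hk⟩ := pCore_isPGroup (G := Y) 2 ⟨p, hp⟩
  refine ⟨k, ?_⟩
  have hk' : p ^ 2 ^ k = 1 := congrArg Subtype.val hk
  rw [← QuotientGroup.eq_one_iff]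
  have h2 : ((p * q : Y) : Y ⧸ Qf Y) = (p : Y ⧸ Qf Y) := by
    rw [QuotientGroup.eq]
    have : (p * q)⁻¹ * p = p⁻¹ * 1 * p⁻¹⁻¹ * 1 * (p⁻¹ * (p * q⁻¹ * p⁻¹) * p) := by group
    rw [this]
    have h3 := hQ.conj_mem _ ((Qf Y).inv_mem hq) p
    have h4 := hQ.conj_mem _ h3 p⁻¹
    simpa using h4
  have h3 : (((p * q) ^ 2 ^ k : Y) : Y ⧸ Qf Y) = ((p * q : Y) : Y ⧸ Qf Y) ^ 2 ^ k := rfl
  rw [h3, h2]
  have h4 : (p : Y ⧸ Qf Y) ^ 2 ^ k = ((p ^ 2 ^ k : Y) : Y ⧸ Qf Y) := rfl
  rw [h4, hk']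
  rfl

/-- `C(Q) ∩ O_{2}`-preimage lies in `F(Y)` -/
theorem inf_centralizer_le [Finite Y] :
    (pCore 2 (Y ⧸ fittingSubgroup Y)).comap (QuotientGroup.mk' (fittingSubgroup Y)) ⊓
      centralizer (Qf Y : Set Y) ≤ fittingSubgroup Y := by
  have hF : Fact (Nat.Prime 2) := ⟨Nat.prime_two⟩
  have hQn := Qf_normal (Y := Y)
  set D := (pCore 2 (Y ⧸ fittingSubgroup Y)).comap (QuotientGroup.mk' (fittingSubgroup Y)) ⊓
      centralizer (Qf Y : Set Y) with hD
  have hDn : D.Normal := by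
    have h1 : ((pCore 2 (Y ⧸ fittingSubgroup Y)).comap (QuotientGroup.mk' (fittingSubgroup Y))).Normal :=
      inferInstance
    have h2 : (centralizer (Qf Y : Set Y)).Normal := inferInstance
    exact normal_inf_normal _ _
  apply le_fittingSubgroup hDn
  -- the map to `Y / Q`
  set f : D →* Y ⧸ Qf Y := (QuotientGroup.mk' (Qf Y)).comp D.subtype with hf
  have hker : f.rangeRestrict.ker ≤ center D := by
    intro d hd
    rw [MonoidHom.ker_rangeRestrict, MonoidHom.mem_ker] at hd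
    have hdQ : (d : Y) ∈ Qf Y := (QuotientGroup.eq_one_iff _).1 hd
    rw [mem_center_iff]
    intro g
    exact Subtype.ext (mem_centralizer_iff.1 g.2.2 _ hdQ).symm
  have hp : IsPGroup 2 f.range := by
    rintro ⟨_, d, rfl⟩
    -- `d ^ 2^a ∈ F`, then `∈ Q`
    obtain ⟨a, ha⟩ := pCore_isPGroup (G := Y ⧸ fittingSubgroup Y) 2 ⟨QuotientGroup.mk' (fittingSubgroup Y) d, d.2.1⟩
    have ha' : (((d : Y) ^ 2 ^ a : Y) : Y ⧸ fittingSubgroup Y) = 1 := congrArg Subtype.val ha
    rw [QuotientGroup.eq_one_iff] at ha'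
    obtain ⟨b, hb⟩ := exists_pow_mem_Qf ha'
    refine ⟨a + b, ?_⟩
    apply Subtype.ext
    have h1 : (((d : Y) ^ 2 ^ (a + b) : Y) : Y ⧸ Qf Y) = 1 := by
      rw [QuotientGroup.eq_one_iff, pow_add, pow_mul]
      exact hb
    exact h1
  have hnil : Group.IsNilpotent f.range := hp.isNilpotent
  exact Subgroup.isNilpotent_of_ker_le_center f.rangeRestrict hker

/-- `O_2(Y/F(Y)) = 1` if `Q` is central -/
theorem pCore_eq_bot [Finite Y] (h : Qf Y ≤ center Y) : pCore 2 (Y ⧸ fittingSubgroup Y) = ⊥ := by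
  have h1 := inf_centralizer_le (Y := Y)
  have h2 : centralizer (Qf Y : Set Y) = ⊤ := by
    rw [eq_top_iff]
    intro y _
    rw [mem_centralizer_iff]
    intro q hq
    exact (mem_center_iff.1 (h hq) y).symm
  rw [h2, inf_top_eq] at h1
  rw [eq_bot_iff]
  intro x hx
  obtain ⟨y, rfl⟩ := QuotientGroup.mk_surjective x
  rw [mem_bot, QuotientGroup.eq_one_iff]
  exact h1 hx

/-- the bound for `2`-groups of automorphisms -/
def AutBound : Prop := ∀ (Q : Type u) [Group Q] [Finite Q], Group.IsNilpotent Q → Odd (Nat.card Q) →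
  ∀ S : Subgroup (MulAut Q), IsPGroup 2 S → Nat.card S ≤ Nat.card Q ^ 2

/-- `|O_2(Y/F(Y))| ≤ |Q|²` -/
theorem card_pCore_le [Finite Y] (hA : AutBound.{u}) :
    Nat.card (pCore 2 (Y ⧸ fittingSubgroup Y)) ≤ Nat.card (Qf Y) ^ 2 := by
  have hF : Fact (Nat.Prime 2) := ⟨Nat.prime_two⟩
  have hQn := Qf_normal (Y := Y)
  obtain ⟨P⟩ := (inferInstance : Nonempty (Sylow 2 Y))
  set T : Subgroup Y := (P : Subgroup Y) ⊓
    (pCore 2 (Y ⧸ fittingSubgroup Y)).comap (QuotientGroup.mk' (fittingSubgroup Y)) with hT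
  have hTp : IsPGroup 2 T := P.isPGroup'.to_le inf_le_left
  -- the two homomorphisms
  set ψ : T →* Y ⧸ fittingSubgroup Y := (QuotientGroup.mk' (fittingSubgroup Y)).comp T.subtype with hψ
  set φ : T →* MulAut (Qf Y) := (MulAut.conjNormal (H := Qf Y)).comp T.subtype with hφ
  have hker : φ.ker ≤ ψ.ker := by
    intro t ht
    rw [MonoidHom.mem_ker] at ht ⊢
    change QuotientGroup.mk' (fittingSubgroup Y) (t : Y) = 1
    rw [QuotientGroup.mk'_apply, QuotientGroup.eq_one_iff]
    apply inf_centralizer_le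
    refine ⟨t.2.2, ?_⟩
    change (t : Y) ∈ centralizer (Qf Y : Set Y)
    rw [mem_centralizer_iff]
    intro q hq
    have h1 := congrArg (fun f : MulAut (Qf Y) => ((f ⟨q, hq⟩ : Qf Y) : Y)) ht
    have h2 : (t : Y) * q * (t : Y)⁻¹ = q := h1
    calc q * (t : Y) = (t : Y) * q * (t : Y)⁻¹ * t := by rw [h2]
      _ = t * q := by group
  have hrange : pCore 2 (Y ⧸ fittingSubgroup Y) ≤ ψ.range := by
    intro z hz
    have h1 : pCore 2 (Y ⧸ fittingSubgroup Y) ≤ (P : Subgroup Y).map (QuotientGroup.mk' (fittingSubgroup Y)) :=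
      pCore_le_sylow (P.mapSurjective (QuotientGroup.mk'_surjective (fittingSubgroup Y)))
    obtain ⟨p, hp, rfl⟩ := h1 hz
    exact ⟨⟨p, hp, hz⟩, rfl⟩
  calc Nat.card (pCore 2 (Y ⧸ fittingSubgroup Y)) ≤ Nat.card ψ.range :=
        Nat.card_le_card_of_injective _ (inclusion_injective hrange)
    _ = ψ.ker.index := (index_ker ψ).symm
    _ ≤ φ.ker.index := index_antitone hker
    _ = Nat.card φ.range := index_ker φ
    _ ≤ Nat.card (Qf Y) ^ 2 := by
        apply hA (Qf Y) Qf_nilpotent Qf_odd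
        rintro ⟨_, t, rfl⟩
        obtain ⟨k, hk⟩ := hTp t
        refine ⟨k, Subtype.ext ?_⟩
        change (φ t) ^ 2 ^ k = 1
        rw [← map_pow, hk, map_one]

/-- `|F(Y)| ≤ |O_2(Y)| |Q|` -/
theorem card_fitting_le [Finite Y] : Nat.card (fittingSubgroup Y) ≤ Nat.card (pCore 2 Y) * Nat.card (Qf Y) := by
  have hF : Fact (Nat.Prime 2) := ⟨Nat.prime_two⟩
  refine (Nat.card_le_card_of_injective _ (inclusion_injective (fitting_le_sup (Y := Y) 2))).trans ?_
  exact Nat.le_of_dvd (Nat.mul_pos Nat.card_pos Nat.card_pos) (card_sup_dvd _ _ (pCore_normal 2))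

/-- `F(Y) ≤ Q` if `O_2(Y) = 1` -/
theorem fitting_le_Qf [Finite Y] (h : pCore 2 Y = ⊥) : fittingSubgroup Y ≤ Qf Y := by
  have hF : Fact (Nat.Prime 2) := ⟨Nat.prime_two⟩
  have h1 := fitting_le_sup (Y := Y) 2
  rwa [h, bot_sup_eq] at h1

/-- the image of `C_Y(F(Y))` in `Y/F(Y)` meets `F(Y/F(Y))` trivially -/
theorem map_centralizer_inf_eq_bot [Finite Y] :
    (centralizer (fittingSubgroup Y : Set Y)).map (QuotientGroup.mk' (fittingSubgroup Y)) ⊓
      fittingSubgroup (Y ⧸ fittingSubgroup Y) = ⊥ := by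
  rw [eq_bot_iff]
  rintro _ ⟨⟨x, hx, rfl⟩, hxK⟩
  set E := centralizer (fittingSubgroup Y : Set Y) ⊓
    (fittingSubgroup (Y ⧸ fittingSubgroup Y)).comap (QuotientGroup.mk' (fittingSubgroup Y)) with hE
  have hEn : E.Normal := by
    have h1 : ((fittingSubgroup (Y ⧸ fittingSubgroup Y)).comap (QuotientGroup.mk' (fittingSubgroup Y))).Normal :=
      inferInstance
    have h2 : (centralizer (fittingSubgroup Y : Set Y)).Normal := inferInstance
    exact normal_inf_normal _ _
  have hEF : E ≤ fittingSubgroup Y := by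
    apply le_fittingSubgroup hEn
    set f : E →* fittingSubgroup (Y ⧸ fittingSubgroup Y) :=
      ((QuotientGroup.mk' (fittingSubgroup Y)).comp E.subtype).codRestrict _ (fun e => e.2.2) with hf
    have hnil := fittingSubgroup_isNilpotent (G := Y ⧸ fittingSubgroup Y)
    have hker : f.ker ≤ center E := by
      intro d hd
      rw [MonoidHom.mem_ker] at hd
      have hd1 : QuotientGroup.mk' (fittingSubgroup Y) (d : Y) = 1 := congrArg Subtype.val hd
      have hdQ : (d : Y) ∈ fittingSubgroup Y := (QuotientGroup.eq_one_iff _).1 hd1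
      rw [mem_center_iff]
      intro g
      exact Subtype.ext (mem_centralizer_iff.1 g.2.1 _ hdQ).symm
    exact Subgroup.isNilpotent_of_ker_le_center f hker
  rw [mem_bot, QuotientGroup.mk'_apply, QuotientGroup.eq_one_iff]
  exact hEF ⟨hx, hxK⟩

/-- the Fitting subgroup modulo a central subgroup -/
theorem comap_fitting_central [Finite Y] {Z : Subgroup Y} [Z.Normal] (hZ : Z ≤ center Y) :
    (fittingSubgroup (Y ⧸ Z)).comap (QuotientGroup.mk' Z) = fittingSubgroup Y := by
  apply le_antisymm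
  · set N := (fittingSubgroup (Y ⧸ Z)).comap (QuotientGroup.mk' Z) with hN
    have hNn : N.Normal := inferInstance
    apply le_fittingSubgroup hNn
    set f : N →* fittingSubgroup (Y ⧸ Z) :=
      ((QuotientGroup.mk' Z).comp N.subtype).codRestrict _ (fun e => e.2) with hf
    have hnil := fittingSubgroup_isNilpotent (G := Y ⧸ Z)
    have hker : f.ker ≤ center N := by
      intro d hd
      rw [MonoidHom.mem_ker] at hd
      have hd1 : QuotientGroup.mk' Z (d : Y) = 1 := congrArg Subtype.val hd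
      have hdQ : (d : Y) ∈ Z := (QuotientGroup.eq_one_iff _).1 hd1
      rw [mem_center_iff]
      intro g
      exact Subtype.ext (mem_center_iff.1 (hZ hdQ) g)
    exact Subgroup.isNilpotent_of_ker_le_center f hker
  · rw [← map_le_iff_le_comap]
    have h1 := (fittingSubgroup_normal (G := Y)).map _ (QuotientGroup.mk'_surjective Z)
    apply le_fittingSubgroup h1
    have hnil := fittingSubgroup_isNilpotent (G := Y)
    have h2 : ((QuotientGroup.mk' Z).comp (fittingSubgroup Y).subtype).range =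
        (fittingSubgroup Y).map (QuotientGroup.mk' Z) := by
      rw [MonoidHom.range_eq_map, ← map_map, ← MonoidHom.range_eq_map, range_subtype]
    have h3 : Group.IsNilpotent ((QuotientGroup.mk' Z).comp (fittingSubgroup Y).subtype).range :=
      Group.nilpotent_of_surjective _ (MonoidHom.rangeRestrict_surjective _)
    rw [← h2]
    exact h3

theorem index_fitting_central [Finite Y] {Z : Subgroup Y} [Z.Normal] (hZ : Z ≤ center Y) :
    (fittingSubgroup (Y ⧸ Z)).index = (fittingSubgroup Y).index := by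
  rw [← comap_fitting_central hZ]
  exact (index_comap_of_surjective _ (QuotientGroup.mk'_surjective Z)).symm

/-- if `F(Y)` is central, then `F(Y/F(Y)) = 1` -/
theorem fitting_quot_eq_bot [Finite Y] (h : fittingSubgroup Y ≤ center Y) :
    fittingSubgroup (Y ⧸ fittingSubgroup Y) = ⊥ := by
  have h1 := comap_fitting_central h
  rw [eq_bot_iff]
  intro x hx
  obtain ⟨y, rfl⟩ := QuotientGroup.mk_surjective x
  rw [mem_bot, QuotientGroup.eq_one_iff, ← h1]
  exact hx

end Cfsg.Agent.H481.SolPart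
end

-- part: H481/Num
section
set_option linter.all false
open scoped Cfsg.Agent.FastGrp

/-!
# Inequalities between factorials used for S3929
-/

set_option autoImplicit false

namespace Cfsg.Agent.H481.Num

open Nat

theorem df_lt (k : ℕ) (hk : 0 < k) : (2 * k)‼ < (2 * k + 1)‼ := by
  induction k with
  | zero => omega
  | succ k ih =>
    rcases Nat.eq_zero_or_pos k with h | h
    · subst h; decide
    · have h1 := ih h
      have e1 : (2 * (k + 1))‼ = (2 * k + 2) * (2 * k)‼ := by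
        rw [show 2 * (k + 1) = 2 * k + 2 by ring, Nat.doubleFactorial_add_two]
      have e2 : (2 * (k + 1) + 1)‼ = (2 * k + 1 + 2) * (2 * k + 1)‼ := by
        rw [show 2 * (k + 1) + 1 = (2 * k + 1) + 2 by ring, Nat.doubleFactorial_add_two]
      rw [e1, e2]
      apply Nat.mul_lt_mul'' (by omega) h1

/-- `(2k)‼² < (2k+1)!` -/
theorem sq_lt (k : ℕ) (hk : 0 < k) : (2 * k)‼ ^ 2 < (2 * k + 1)! := by
  rw [Nat.factorial_eq_mul_doubleFactorial, pow_two]
  exact Nat.mul_lt_mul_of_pos_right (df_lt k hk) (Nat.doubleFactorial_pos _)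

theorem df_le_factorial (k : ℕ) : (2 * k)‼ ≤ (2 * k)! := by
  rcases Nat.eq_zero_or_pos k with h | h
  · subst h; decide
  · obtain ⟨n, hn⟩ : ∃ n, 2 * k = n + 1 := ⟨2 * k - 1, by omega⟩
    rw [hn, Nat.factorial_eq_mul_doubleFactorial]
    exact Nat.le_mul_of_pos_right _ (Nat.doubleFactorial_pos _)

theorem mul_le (k : ℕ) : (2 * k)‼ * (2 * k + 1) ≤ (2 * k + 1)! := by
  rw [Nat.factorial_succ, mul_comm]
  exact Nat.mul_le_mul le_rfl (df_le_factorial k)

theorem df_le (k : ℕ) : (2 * k + 1)‼ ≤ (2 * k + 2)‼ := by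
  induction k with
  | zero => decide
  | succ k ih =>
    have e1 : (2 * (k + 1) + 2)‼ = (2 * k + 2 + 2) * (2 * k + 2)‼ := by
      rw [show 2 * (k + 1) + 2 = 2 * k + 2 + 2 by ring, Nat.doubleFactorial_add_two]
    have e2 : (2 * (k + 1) + 1)‼ = (2 * k + 1 + 2) * (2 * k + 1)‼ := by
      rw [show 2 * (k + 1) + 1 = (2 * k + 1) + 2 by ring, Nat.doubleFactorial_add_two]
    rw [e1, e2]
    exact Nat.mul_le_mul (by omega) ih

/-- `(2k)! ≤ (2k)‼²` -/
theorem factorial_le_sq (k : ℕ) (hk : 0 < k) : (2 * k)! ≤ (2 * k)‼ ^ 2 := by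
  obtain ⟨j, rfl⟩ : ∃ j, k = j + 1 := ⟨k - 1, by omega⟩
  rw [show 2 * (j + 1) = (2 * j + 1) + 1 by ring, Nat.factorial_eq_mul_doubleFactorial, pow_two]
  exact Nat.mul_le_mul le_rfl (df_le j)

/-- the top case -/
theorem top (k : ℕ) (hk : 0 < k) : (2 * k)‼ * ((2 * k)! * (2 * k)‼ ^ 5) < ((2 * k + 1)!) ^ 4 := by
  calc (2 * k)‼ * ((2 * k)! * (2 * k)‼ ^ 5) ≤ (2 * k)‼ * ((2 * k)‼ ^ 2 * (2 * k)‼ ^ 5) := by
        gcongr; exact factorial_le_sq k hk
    _ = ((2 * k)‼ ^ 2) ^ 4 := by ring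
    _ < ((2 * k + 1)!) ^ 4 := Nat.pow_lt_pow_left (sq_lt k hk) (by norm_num)

theorem cube_le {a b : ℕ} (h : 3 * a ≤ b) : (a !) ^ 3 ≤ b ! := by
  have h1 : a ! * a ! ≤ (a + a)! := Nat.le_of_dvd (Nat.factorial_pos _) (Nat.factorial_mul_factorial_dvd_factorial_add a a)
  have h2 : (a + a)! * a ! ≤ (a + a + a)! :=
    Nat.le_of_dvd (Nat.factorial_pos _) (Nat.factorial_mul_factorial_dvd_factorial_add (a + a) a)
  calc (a !) ^ 3 = (a ! * a !) * a ! := by ring
    _ ≤ (a + a)! * a ! := Nat.mul_le_mul h1 le_rfl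
    _ ≤ (a + a + a)! := h2
    _ ≤ b ! := Nat.factorial_le (by omega)

/-- case A -/
theorem caseA (k a : ℕ) (hk : 0 < k) (h : 3 * a ≤ 2 * k + 1) :
    (2 * k)‼ ^ 3 * (2 * k + 1) ^ 2 * (a !) ^ 4 ≤ ((2 * k + 1)!) ^ 4 := by
  set m := 2 * k + 1 with hm
  have h1 : (2 * k)‼ ^ 2 ≤ m ! := (sq_lt k hk).le
  have h2 : (2 * k)‼ * m ≤ m ! := mul_le k
  have h3 : (a !) ^ 3 ≤ m ! := cube_le h
  have h4 : m * a ! ≤ m ! := by
    rw [hm, Nat.factorial_succ]
    exact Nat.mul_le_mul le_rfl (Nat.factorial_le (by omega))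
  calc (2 * k)‼ ^ 3 * m ^ 2 * (a !) ^ 4 = (2 * k)‼ ^ 2 * ((2 * k)‼ * m) * (m * a !) * (a !) ^ 3 := by ring
    _ ≤ m ! * m ! * m ! * m ! := by gcongr
    _ = (m !) ^ 4 := by ring

/-- `(a!)^b ≤ (b!)^a` for `a ≤ b` -/
theorem factorial_pow_le {a b : ℕ} (h : a ≤ b) : (a !) ^ b ≤ (b !) ^ a := by
  induction b, h using Nat.le_induction with
  | base => exact le_rfl
  | succ b hb ih =>
    rw [pow_succ, Nat.factorial_succ, mul_pow, mul_comm]
    apply Nat.mul_le_mul _ ih
    calc a ! ≤ a ^ a := Nat.factorial_le_pow a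
      _ ≤ (b + 1) ^ a := Nat.pow_le_pow_left (by omega) a

theorem five_le {a m : ℕ} (hm : 0 < m) (h : 5 * a ≤ 3 * m) : (a !) ^ 5 ≤ (m !) ^ 3 := by
  have h1 : ((a !) ^ 5) ^ m ≤ ((m !) ^ 3) ^ m := by
    calc ((a !) ^ 5) ^ m = ((a !) ^ m) ^ 5 := by rw [← pow_mul, ← pow_mul, mul_comm]
      _ ≤ ((m !) ^ a) ^ 5 := Nat.pow_le_pow_left (factorial_pow_le (by omega)) 5
      _ = (m !) ^ (5 * a) := by rw [← pow_mul, mul_comm]
      _ ≤ (m !) ^ (3 * m) := Nat.pow_le_pow_right (Nat.factorial_pos _) h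
      _ = ((m !) ^ 3) ^ m := by rw [← pow_mul]
  exact (Nat.pow_le_pow_iff_left hm.ne').1 h1

/-- case B1 -/
theorem caseB (k a : ℕ) (h : 5 * a ≤ 3 * (2 * k + 1)) :
    a * (2 * k)‼ * (a !) ^ 4 ≤ ((2 * k + 1)!) ^ 4 := by
  have h1 : (a !) ^ 4 ≤ ((2 * k + 1)!) ^ 3 :=
    (Nat.pow_le_pow_right (Nat.factorial_pos _) (by norm_num)).trans (five_le (by omega) h)
  have h2 : a * (2 * k)‼ ≤ (2 * k + 1)! := by
    refine le_trans ?_ (mul_le k)
    rw [mul_comm]
    exact Nat.mul_le_mul le_rfl (by omega)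
  calc a * (2 * k)‼ * (a !) ^ 4 ≤ (2 * k + 1)! * ((2 * k + 1)!) ^ 3 := Nat.mul_le_mul h2 h1
    _ = ((2 * k + 1)!) ^ 4 := by ring

end Cfsg.Agent.H481.Num
end

-- part: H481/MainRed
section
set_option linter.all false
open scoped Cfsg.Agent.FastGrp

/-!
# `[G : F(G)] < (m!)⁴`: the reduction

`main` : the bound follows from `AutBound` (2-groups of automorphisms of nilpotent groups of odd order) and
`TopBound` (groups with trivial Fitting subgroup).
-/

set_option autoImplicit false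

namespace Cfsg.Agent.H481.Inv

open Cfsg Cfsg.Agent.Lib.Cores Cfsg.Agent.H481.SolPart Nat

universe u

/-- groups with trivial Fitting subgroup -/
def TopBound : Prop := ∀ (X : Type u) [Group X] [Finite X], fittingSubgroup X = ⊥ →
  ∀ α : MulAut X, (∀ x, α (α x) = x) → ∃ (n : ℕ) (A : Subgroup X), (∀ a ∈ A, ∀ b ∈ A, a * b = b * a) ∧
    (∀ a ∈ A, a * a = 1) ∧ (∀ a ∈ A, α a ∈ A) ∧ 2 ^ n ≤ Nat.card A ∧
      Nat.card X ≤ n.factorial * Nat.card {x : X // α x = x} ^ 5

theorem center_eq_bot_of_fitting {X : Type u} [Group X] (h : fittingSubgroup X = ⊥) :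
    Subgroup.center X = ⊥ := by
  rw [eq_bot_iff, ← h]
  have hn : Group.IsNilpotent (Subgroup.center X) := by
    apply Subgroup.isNilpotent_of_ker_le_center (1 : Subgroup.center X →* Unit)
    intro x _
    rw [Subgroup.mem_center_iff]
    intro y
    exact Subtype.ext (Subgroup.mem_center_iff.1 x.2 y)
  exact le_fittingSubgroup inferInstance hn

/-- the top bound with `[X, α] = X` -/
theorem top_le (hTop : TopBound.{u}) {X : Type u} [Group X] [Finite X] [Nontrivial X]
    (hF : fittingSubgroup X = ⊥) {α : MulAut X} (h2 : ∀ x, α (α x) = x) (hG : Full α) {k : ℕ} (_hk : 0 < k)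
    (hJ : Nat.card (J α) ≤ 2 * k + 1) (hc : Nat.card (fixed α) ≤ (2 * k)‼) :
    Nat.card X ≤ (2 * k)! * (2 * k)‼ ^ 5 := by
  obtain ⟨n, A, _, hsq, hinv, hn, hX⟩ := hTop X hF α h2
  have h1 := card_le_of_sub h2 hG (center_eq_bot_of_fitting hF) A hinv hsq
  have h3 : n ≤ 2 * k := by
    have h4 : 2 ^ n ≤ 2 ^ (2 * k) := by
      refine hn.trans (h1.trans ?_)
      apply Nat.pow_le_pow_right (by norm_num)
      omega
    exact (Nat.pow_le_pow_iff_right (by norm_num)).1 h4
  refine hX.trans ?_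
  have h5 : Nat.card {x : X // α x = x} ≤ (2 * k)‼ := hc
  exact Nat.mul_le_mul (Nat.factorial_le h3) (Nat.pow_le_pow_left h5 5)

theorem fitting_map {X : Type u} [Group X] (β : MulAut X) :
    (fittingSubgroup X).map β.toMonoidHom = fittingSubgroup X := map_equiv_fittingSubgroup β

/-- the inductive step: `Y` has few fixed points, `G₁ = Y/F(Y)` -/
theorem step (hTop : TopBound.{u}) (hAut : AutBound.{u}) {Y : Type u} [Group Y] [Finite Y] {β : MulAut Y}
    (h2 : ∀ x, β (β x) = x) (hG : Full β) {k : ℕ} (hk : 0 < k)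
    (hJ : Nat.card (J β) ≤ 2 * k + 1) (hc : Nat.card (fixed β) ≤ (2 * k)‼)
    (IH : ∀ (X : Type u) [Group X] [Finite X] [Nontrivial X] (α : MulAut X), (∀ x, α (α x) = x) → Full α →
      Nat.card (J α) < 2 * k + 1 → (fittingSubgroup X).index < (Nat.card (J α))! ^ 4) :
    (fittingSubgroup Y).index < (2 * k + 1)! ^ 4 := by
  set F := fittingSubgroup Y with hFdef
  have hFm := fitting_map β
  set γ := qa β F hFm with hγ
  have g2 : ∀ x, γ (γ x) = x := qa_qa h2 hFm
  have gG : Full γ := full_qa hG hFm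
  have hc1 : Nat.card (fixed γ) ≤ (2 * k)‼ := (card_fixed_qa_le hFm).trans hc
  have hm1 : Nat.card (J γ) ≤ 2 * k + 1 := (card_J_qa_le h2 hFm).trans hJ
  change Nat.card (Y ⧸ F) < _
  have hfac : 1 < (2 * k + 1)! ^ 4 := by
    have h1 : 1 < (2 * k + 1)! := by
      have := Nat.self_le_factorial (2 * k + 1)
      omega
    exact Nat.one_lt_pow (by norm_num) h1
  rcases subsingleton_or_nontrivial (Y ⧸ F) with hs | hnt
  · rw [Nat.card_of_subsingleton (1 : Y ⧸ F)]
    exact hfac
  -- `K = F(G₁)`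
  set K := fittingSubgroup (Y ⧸ F) with hK
  have hQY := Qf_odd (Y := Y)
  have hQ1 := Qf_odd (Y := Y ⧸ F)
  have hKcard : Nat.card K * K.index = Nat.card (Y ⧸ F) := Subgroup.card_mul_index K
  have hK1 : Nat.card K ≤ Nat.card (pCore 2 (Y ⧸ F)) * Nat.card (Qf (Y ⧸ F)) := card_fitting_le
  have hQ1c : Nat.card (Qf (Y ⧸ F)) ≤ Nat.card (JN γ (Qf (Y ⧸ F))) * (2 * k)‼ :=
    (card_odd_sub_le g2 (fun x hx => apply_mem_Qf γ hx) hQ1).trans (Nat.mul_le_mul le_rfl hc1)
  rcases odd_dichotomy h2 (fun x hx => apply_mem_Qf β hx) hQY with hA | hB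
  · -- case A
    have h3 : Nat.card (J γ) * Nat.card (JN β (Qf Y)) ≤ 2 * k + 1 :=
      (card_J_mul_le h2 Qf_normal hQY Qf_le hFm).trans hJ
    have hJpos : 0 < Nat.card (J γ) := by
      have : Nonempty (J γ) := ⟨⟨1, one_mem_J γ⟩⟩
      exact Nat.card_pos
    have h4 : 3 * Nat.card (J γ) ≤ 2 * k + 1 := by
      refine le_trans ?_ h3
      rw [mul_comm]
      exact Nat.mul_le_mul le_rfl hA
    have hIH := IH (Y ⧸ F) γ g2 gG (by omega)
    have hQc : Nat.card (Qf Y) ≤ Nat.card (JN β (Qf Y)) * (2 * k)‼ :=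
      (card_odd_sub_le h2 (fun x hx => apply_mem_Qf β hx) hQY).trans (Nat.mul_le_mul le_rfl hc)
    have hP : Nat.card (pCore 2 (Y ⧸ F)) ≤ (Nat.card (JN β (Qf Y)) * (2 * k)‼) ^ 2 :=
      (card_pCore_le hAut).trans (Nat.pow_le_pow_left hQc 2)
    have h5 : Nat.card (JN γ (Qf (Y ⧸ F))) ≤ Nat.card (J γ) := card_JN_le _
    have h6 : Nat.card (JN β (Qf Y)) ≤ 2 * k + 1 := by
      refine le_trans ?_ h3
      exact Nat.le_mul_of_pos_left _ hJpos
    have hKc : Nat.card K ≤ (2 * k)‼ ^ 3 * (2 * k + 1) ^ 2 := by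
      calc Nat.card K ≤ Nat.card (pCore 2 (Y ⧸ F)) * Nat.card (Qf (Y ⧸ F)) := hK1
        _ ≤ (Nat.card (JN β (Qf Y)) * (2 * k)‼) ^ 2 * (Nat.card (J γ) * (2 * k)‼) := by
            apply Nat.mul_le_mul hP
            exact hQ1c.trans (Nat.mul_le_mul h5 le_rfl)
        _ = (2 * k)‼ ^ 3 * (Nat.card (J γ) * Nat.card (JN β (Qf Y)) * Nat.card (JN β (Qf Y))) := by ring
        _ ≤ (2 * k)‼ ^ 3 * ((2 * k + 1) * (2 * k + 1)) := by
            apply Nat.mul_le_mul le_rfl
            exact Nat.mul_le_mul h3 h6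
        _ = (2 * k)‼ ^ 3 * (2 * k + 1) ^ 2 := by ring
    rw [← hKcard]
    have hpos : 0 < (2 * k)‼ ^ 3 * (2 * k + 1) ^ 2 := by
      have := Nat.doubleFactorial_pos (2 * k)
      positivity
    calc Nat.card K * K.index ≤ ((2 * k)‼ ^ 3 * (2 * k + 1) ^ 2) * K.index := Nat.mul_le_mul hKc le_rfl
      _ < ((2 * k)‼ ^ 3 * (2 * k + 1) ^ 2) * (Nat.card (J γ))! ^ 4 := Nat.mul_lt_mul_of_pos_left hIH hpos
      _ ≤ (2 * k + 1)! ^ 4 := Num.caseA k _ hk h4
  · -- case B
    have hcen : Qf Y ≤ Subgroup.center Y := le_center_of_fixed hG Qf_normal hB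
    have hP : pCore 2 (Y ⧸ F) = ⊥ := pCore_eq_bot hcen
    have hP1 : Nat.card (pCore 2 (Y ⧸ F)) = 1 := by rw [hP]; exact Subgroup.card_bot
    have hKQ : Nat.card K ≤ Nat.card (Qf (Y ⧸ F)) := by
      rw [hP1, one_mul] at hK1; exact hK1
    rcases odd_dichotomy g2 (fun x hx => apply_mem_Qf γ hx) hQ1 with hA1 | hB1
    · -- case B1
      have hJC : Nat.card (JC β F hFm) * Nat.card (JN γ (Qf (Y ⧸ F))) ≤ Nat.card (J γ) := by
        set C1 := (Subgroup.centralizer (F : Set Y)).map (QuotientGroup.mk' F) with hC1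
        have hC1n : C1.Normal := by
          have : (Subgroup.centralizer (F : Set Y)).Normal := inferInstance
          exact this.map _ (QuotientGroup.mk'_surjective F)
        have hinf : C1 ⊓ Qf (Y ⧸ F) = ⊥ := by
          rw [eq_bot_iff, ← map_centralizer_inf_eq_bot (Y := Y)]
          exact inf_le_inf le_rfl Qf_le
        have h7 : Nat.card (JC β F hFm) ≤ Nat.card (JN γ C1) := by
          apply Nat.card_le_card_of_injective (fun x : JC β F hFm => (⟨x.1, x.2.1, by
            obtain ⟨y, _, hyx, hyc⟩ := x.2.2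
            refine ⟨y, ?_, hyx⟩
            change y ∈ Subgroup.centralizer (F : Set Y)
            rw [Subgroup.mem_centralizer_iff]
            intro n hn
            exact (hyc n hn).eq⟩ : JN γ C1))
          intro x y h
          have h8 := congrArg (Subtype.val : JN γ C1 → Y ⧸ F) h
          exact Subtype.ext h8
        refine le_trans (Nat.mul_le_mul h7 le_rfl) ?_
        apply card_JN_mul_le hinf
        intro c hc' q hq
        exact Subgroup.commute_of_normal_of_disjoint _ _ hC1n Qf_normal (disjoint_iff.2 hinf) c q hc' hq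
      have h8 : 2 * Nat.card (J γ) ≤ Nat.card (J β) + Nat.card (JC β F hFm) := two_mul_card_J_le h2 hFm
      have h9 : 5 * Nat.card (J γ) ≤ 3 * (2 * k + 1) := by
        have h10 : Nat.card (JC β F hFm) * 3 ≤ Nat.card (J γ) :=
          le_trans (Nat.mul_le_mul le_rfl hA1) hJC
        omega
      have hIH := IH (Y ⧸ F) γ g2 gG (by omega)
      have hKc : Nat.card K ≤ Nat.card (J γ) * (2 * k)‼ :=
        hKQ.trans (hQ1c.trans (Nat.mul_le_mul (card_JN_le _) le_rfl))
      have hpos : 0 < Nat.card (J γ) * (2 * k)‼ := by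
        have : Nonempty (J γ) := ⟨⟨1, one_mem_J γ⟩⟩
        exact Nat.mul_pos Nat.card_pos (Nat.doubleFactorial_pos _)
      rw [← hKcard]
      calc Nat.card K * K.index ≤ (Nat.card (J γ) * (2 * k)‼) * K.index := Nat.mul_le_mul hKc le_rfl
        _ < (Nat.card (J γ) * (2 * k)‼) * (Nat.card (J γ))! ^ 4 := Nat.mul_lt_mul_of_pos_left hIH hpos
        _ ≤ (2 * k + 1)! ^ 4 := Num.caseB k _ h9
    · -- case B2
      have hKle : K ≤ Qf (Y ⧸ F) := fitting_le_Qf hP
      have hcen1 : Qf (Y ⧸ F) ≤ Subgroup.center (Y ⧸ F) := le_center_of_fixed gG Qf_normal hB1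
      have hKcen : K ≤ Subgroup.center (Y ⧸ F) := hKle.trans hcen1
      have hKc : Nat.card K ≤ (2 * k)‼ := by
        refine le_trans ?_ hc1
        apply Nat.card_le_card_of_injective (fun x : K => (⟨x, hB1 x (hKle x.2)⟩ : fixed γ))
        intro x y h
        have h8 := congrArg (Subtype.val : fixed γ → Y ⧸ F) h
        exact Subtype.ext h8
      have hKm := fitting_map γ
      have hF2 : fittingSubgroup ((Y ⧸ F) ⧸ K) = ⊥ := fitting_quot_eq_bot hKcen
      rw [← hKcard]
      change Nat.card K * Nat.card ((Y ⧸ F) ⧸ K) < _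
      have hdf : 0 < (2 * k)‼ := Nat.doubleFactorial_pos _
      have hle : Nat.card ((Y ⧸ F) ⧸ K) ≤ (2 * k)! * (2 * k)‼ ^ 5 := by
        rcases subsingleton_or_nontrivial ((Y ⧸ F) ⧸ K) with hs | hnt2
        · rw [Nat.card_of_subsingleton (1 : (Y ⧸ F) ⧸ K)]
          exact Nat.mul_pos (Nat.factorial_pos _) (pow_pos hdf _)
        · exact top_le hTop hF2 (qa_qa g2 hKm) (full_qa gG hKm) hk ((card_J_qa_le g2 hKm).trans hm1)
            ((card_fixed_qa_le hKm).trans hc1)
      calc Nat.card K * Nat.card ((Y ⧸ F) ⧸ K) ≤ (2 * k)‼ * ((2 * k)! * (2 * k)‼ ^ 5) := Nat.mul_le_mul hKc hle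
        _ < (2 * k + 1)! ^ 4 := Num.top k hk

theorem main (hTop : TopBound.{u}) (hAut : AutBound.{u}) : ∀ (m : ℕ) (X : Type u) [Group X] [Finite X]
    [Nontrivial X] (α : MulAut X), (∀ x, α (α x) = x) → Full α → Nat.card (J α) = m →
      (fittingSubgroup X).index < m ! ^ 4 := by
  intro m
  induction m using Nat.strong_induction_on with
  | _ m ih =>
    intro X _ _ _ α h2 hG hm
    obtain ⟨k, hk, hJ, hc⟩ := fixed_center_le' h2 hG
    have hZm := center_map (α := α) h2
    rw [← index_fitting_central (Z := Subgroup.center X) le_rfl, ← hm, hJ]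
    apply step hTop hAut (qa_qa h2 hZm) (full_qa hG hZm) hk ((card_J_qa_le h2 hZm).trans hJ.le) hc
    intro X' _ _ _ α' h2' hG' hlt
    exact ih _ (by omega) X' α' h2' hG' rfl

end Cfsg.Agent.H481.Inv
end

-- part: H446/TwoAutNil
section
set_option linter.all false
open scoped Cfsg.Agent.FastGrp

/-!
# A `2`-group of automorphisms of a nilpotent group `Q` of odd order has order at most `|Q|²`

`two_group_card_le`.  Induction on `|Q|`; the base case uses the order of `GL_n(p)`.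
-/

set_option autoImplicit false
set_option linter.style.haveILetI false

namespace Cfsg.Agent.H446.TwoAutNil

open Finset

universe u

/-! ## Arithmetic -/

section arith

theorem v_odd {p : ℕ} (hp : 3 ≤ p) (hodd : Odd p) {n : ℕ} (hn : Odd n) :
    padicValNat 2 (p ^ n - 1) = padicValNat 2 (p - 1) := by
  obtain ⟨x, rfl⟩ : ∃ x, p = x + 1 := ⟨p - 1, by omega⟩
  have h := geom_sum_mul_add x n
  have h1 : (x + 1) ^ n - 1 = (∑ i ∈ range n, (x + 1) ^ i) * x := by omega
  have hS : Odd (∑ i ∈ range n, (x + 1) ^ i) := by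
    rw [Finset.odd_sum_iff_odd_card_odd]
    have : (range n).filter (fun i => Odd ((x + 1) ^ i)) = range n := by
      apply Finset.filter_true_of_mem
      intro i _
      exact hodd.pow
    rw [this, card_range]
    exact hn
  have hS0 : (∑ i ∈ range n, (x + 1) ^ i) ≠ 0 := by
    intro h0; rw [h0] at hS; exact absurd hS (by decide)
  rw [h1, padicValNat.mul hS0 (by omega), Nat.add_sub_cancel]
  have : padicValNat 2 (∑ i ∈ range n, (x + 1) ^ i) = 0 := by
    apply padicValNat.eq_zero_of_not_dvd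
    intro hd
    exact (Nat.not_even_iff_odd.2 hS) (even_iff_two_dvd.2 hd)
  omega

theorem v_even {p : ℕ} (hp : 3 ≤ p) (hodd : Odd p) {n : ℕ} (hn : n ≠ 0) (hne : Even n) :
    padicValNat 2 (p ^ n - 1) + 1 = padicValNat 2 (p + 1) + padicValNat 2 (p - 1) + padicValNat 2 n := by
  obtain ⟨k, hk⟩ := hodd
  have := padicValNat.pow_two_sub_pow (x := p) (y := 1) (by omega) (by omega) (by omega) hn hne
  rwa [one_pow] at this

/-- `∏_{j=1}^{n} (p^j - 1)`. -/
def F (p n : ℕ) : ℕ := ∏ j ∈ range n, (p ^ (j + 1) - 1)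

theorem F_ne_zero {p : ℕ} (hp : 3 ≤ p) (n : ℕ) : F p n ≠ 0 := by
  unfold F
  rw [Finset.prod_ne_zero_iff]
  intro j _
  have : 3 ^ 1 ≤ p ^ (j + 1) := le_trans (Nat.pow_le_pow_left hp 1)
    (Nat.pow_le_pow_right (by omega) (by omega))
  omega

theorem F_succ (p n : ℕ) : F p (n + 1) = F p n * (p ^ (n + 1) - 1) := by
  unfold F; rw [prod_range_succ]

theorem pow_sub_ne {p : ℕ} (hp : 3 ≤ p) (j : ℕ) : p ^ (j + 1) - 1 ≠ 0 := by
  have : 3 ^ 1 ≤ p ^ (j + 1) := le_trans (Nat.pow_le_pow_left hp 1)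
    (Nat.pow_le_pow_right (by omega) (by omega))
  omega

theorem v_F {p : ℕ} (hp : 3 ≤ p) (hodd : Odd p) (l : ℕ) :
    padicValNat 2 (F p (2 * l)) =
      l * (2 * padicValNat 2 (p - 1) + padicValNat 2 (p + 1)) + padicValNat 2 l.factorial := by
  induction l with
  | zero => simp [F]
  | succ l ih =>
    have h1 : 2 * (l + 1) = 2 * l + 1 + 1 := by ring
    rw [h1, F_succ, F_succ, padicValNat.mul (mul_ne_zero (F_ne_zero hp _) (pow_sub_ne hp _))
      (pow_sub_ne hp _), padicValNat.mul (F_ne_zero hp _) (pow_sub_ne hp _), ih,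
      v_odd hp hodd (n := 2 * l + 1) ⟨l, rfl⟩]
    have h2 := v_even hp hodd (n := 2 * l + 1 + 1) (by omega) ⟨l + 1, by ring⟩
    have h3 : padicValNat 2 (2 * l + 1 + 1) = 1 + padicValNat 2 (l + 1) := by
      rw [show 2 * l + 1 + 1 = 2 * (l + 1) by ring, padicValNat.mul (by norm_num) (by omega),
        padicValNat_self]
    have h4 : padicValNat 2 (l + 1).factorial = padicValNat 2 (l + 1) + padicValNat 2 l.factorial := by
      rw [Nat.factorial_succ, padicValNat.mul (by omega) (Nat.factorial_ne_zero l)]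
    have h5 : (l + 1) * (2 * padicValNat 2 (p - 1) + padicValNat 2 (p + 1)) =
      l * (2 * padicValNat 2 (p - 1) + padicValNat 2 (p + 1)) +
        (2 * padicValNat 2 (p - 1) + padicValNat 2 (p + 1)) := by ring
    omega

theorem two_pow_v_le {m : ℕ} (hm : m ≠ 0) : 2 ^ padicValNat 2 m ≤ m :=
  Nat.le_of_dvd (Nat.pos_of_ne_zero hm) pow_padicValNat_dvd

theorem bound_even {p : ℕ} (hp : 3 ≤ p) (hodd : Odd p) (l : ℕ) :
    2 ^ padicValNat 2 (F p (2 * l)) ≤ (p ^ 4) ^ l := by
  have h1 : padicValNat 2 (F p (2 * l)) ≤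
      (2 * padicValNat 2 (p - 1) + padicValNat 2 (p + 1) + 1) * l := by
    rw [v_F hp hodd]
    have := padicValNat_factorial_le (p := 2) l
    have h5 : (2 * padicValNat 2 (p - 1) + padicValNat 2 (p + 1) + 1) * l =
      l * (2 * padicValNat 2 (p - 1) + padicValNat 2 (p + 1)) + l := by ring
    omega
  calc 2 ^ padicValNat 2 (F p (2 * l))
      ≤ 2 ^ ((2 * padicValNat 2 (p - 1) + padicValNat 2 (p + 1) + 1) * l) :=
        Nat.pow_le_pow_right (by norm_num) h1
    _ = (2 ^ (2 * padicValNat 2 (p - 1) + padicValNat 2 (p + 1) + 1)) ^ l := by rw [pow_mul]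
    _ ≤ (p ^ 4) ^ l := by
        apply Nat.pow_le_pow_left
        have ha := two_pow_v_le (m := p - 1) (by omega)
        have hb := two_pow_v_le (m := p + 1) (by omega)
        have h0 : 2 ^ (2 * padicValNat 2 (p - 1) + padicValNat 2 (p + 1) + 1) =
          2 ^ padicValNat 2 (p - 1) * 2 ^ padicValNat 2 (p - 1) * 2 ^ padicValNat 2 (p + 1) * 2 := by
          ring
        rw [h0]
        calc 2 ^ padicValNat 2 (p - 1) * 2 ^ padicValNat 2 (p - 1) * 2 ^ padicValNat 2 (p + 1) * 2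
            ≤ (p - 1) * (p - 1) * (p + 1) * 2 := by gcongr
          _ ≤ p * p * (p + 1) * 2 := by gcongr <;> omega
          _ = (p * p) * (2 * (p + 1)) := by ring
          _ ≤ (p * p) * (p * p) := Nat.mul_le_mul_left _ (by nlinarith)
          _ = p ^ 4 := by ring

theorem bound {p : ℕ} (hp : 3 ≤ p) (hodd : Odd p) (n : ℕ) :
    2 ^ padicValNat 2 (F p n) ≤ (p ^ n) ^ 2 := by
  rcases Nat.even_or_odd' n with ⟨l, rfl | rfl⟩
  · refine (bound_even hp hodd l).trans (le_of_eq ?_)
    rw [← pow_mul, ← pow_mul]; congr 1; ring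
  · rw [F_succ, padicValNat.mul (F_ne_zero hp _) (pow_sub_ne hp _), v_odd hp hodd ⟨l, rfl⟩, pow_add]
    calc 2 ^ padicValNat 2 (F p (2 * l)) * 2 ^ padicValNat 2 (p - 1)
        ≤ (p ^ 4) ^ l * p ^ 2 := by
          apply Nat.mul_le_mul (bound_even hp hodd l)
          refine (two_pow_v_le (m := p - 1) (by omega)).trans ?_
          nlinarith [Nat.sub_le p 1]
      _ = (p ^ (2 * l + 1)) ^ 2 := by rw [← pow_mul, ← pow_mul, ← pow_add]; congr 1; ring

theorem v_prod {ι : Type*} (s : Finset ι) (f : ι → ℕ) (hf : ∀ i ∈ s, f i ≠ 0) :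
    padicValNat 2 (∏ i ∈ s, f i) = ∑ i ∈ s, padicValNat 2 (f i) := by
  classical
  induction s using Finset.induction_on with
  | empty => simp
  | insert a t ha ih =>
    rw [Finset.prod_insert ha, Finset.sum_insert ha,
      padicValNat.mul (hf a (Finset.mem_insert_self a t))
        (Finset.prod_ne_zero_iff.2 fun i hi => hf i (Finset.mem_insert_of_mem hi)),
      ih fun i hi => hf i (Finset.mem_insert_of_mem hi)]

theorem v_GL {p : ℕ} (hp : 3 ≤ p) (hodd : Odd p) (n : ℕ) :
    padicValNat 2 (∏ i : Fin n, (p ^ n - p ^ (i : ℕ))) = padicValNat 2 (F p n) := by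
  have hne : ∀ i : Fin n, p ^ n - p ^ (i : ℕ) ≠ 0 := fun i => by
    have := Nat.pow_lt_pow_right (a := p) (by omega) i.2
    omega
  haveI : Fact (Nat.Prime 2) := ⟨Nat.prime_two⟩
  have h1 : padicValNat 2 (∏ i : Fin n, (p ^ n - p ^ (i : ℕ))) =
      ∑ i : Fin n, padicValNat 2 (p ^ (n - 1 - (i : ℕ) + 1) - 1) := by
    rw [v_prod _ _ (fun i _ => hne i)]
    apply Finset.sum_congr rfl
    intro i _
    have h2 : p ^ n - p ^ (i : ℕ) = p ^ (i : ℕ) * (p ^ (n - 1 - (i : ℕ) + 1) - 1) := by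
      have hi := i.2
      rw [Nat.mul_sub, ← pow_add, mul_one]
      congr 2; omega
    rw [h2, padicValNat.mul (pow_ne_zero _ (by omega)) (pow_sub_ne hp _)]
    have : padicValNat 2 (p ^ (i : ℕ)) = 0 := by
      apply padicValNat.eq_zero_of_not_dvd
      intro hd
      exact (Nat.not_even_iff_odd.2 (hodd.pow)) (even_iff_two_dvd.2 hd)
    omega
  rw [h1, F, v_prod _ _ (fun j _ => pow_sub_ne hp j),
    Fin.sum_univ_eq_sum_range (fun i => padicValNat 2 (p ^ (n - 1 - i + 1) - 1)) n,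
    Finset.sum_range_reflect (fun j => padicValNat 2 (p ^ (j + 1) - 1)) n]

end arith

/-! ## The linear case -/

theorem linear_case {Q : Type u} [CommGroup Q] [Finite Q] {p : ℕ}
    [hp : Fact p.Prime] (hp2 : p ≠ 2) [Module (ZMod p) (Additive Q)] (S : Subgroup (MulAut Q))
    (hS : IsPGroup 2 S) : Nat.card S ≤ Nat.card Q ^ 2 := by
  haveI : Finite (Additive Q) := inferInstanceAs (Finite Q)
  haveI : Module.Finite (ZMod p) (Additive Q) := Module.Finite.of_finite
  have h3 : 3 ≤ p := by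
    have := hp.out.two_le
    omega
  have hodd : Odd p := hp.out.odd_of_ne_two hp2
  obtain ⟨n, hn⟩ : ∃ n, Module.finrank (ZMod p) (Additive Q) = n := ⟨_, rfl⟩
  have b := Module.finBasisOfFinrankEq (ZMod p) (Additive Q) hn
  have hcard : Nat.card Q = p ^ n := by
    have h : Nat.card (Additive Q) = Nat.card (ZMod p) ^ Module.finrank (ZMod p) (Additive Q) :=
      Module.natCard_eq_pow_finrank (K := ZMod p) (V := Additive Q)
    rw [Nat.card_zmod, hn] at h
    exact h
  let φ : MulAut Q →* Module.End (ZMod p) (Additive Q) :=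
    { toFun := fun f => AddMonoidHom.toZModLinearMap p (MonoidHom.toAdditive f.toMonoidHom)
      map_one' := by ext x; rfl
      map_mul' := fun f g => by ext x; rfl }
  let ψ : MulAut Q →* GL (Fin n) (ZMod p) :=
    (Units.mapEquiv (LinearMap.toMatrixAlgEquiv b).toMulEquiv).toMonoidHom.comp φ.toHomUnits
  have hinj : Function.Injective ψ := by
    intro f g hfg
    have h1 : φ.toHomUnits f = φ.toHomUnits g :=
      (Units.mapEquiv (LinearMap.toMatrixAlgEquiv b).toMulEquiv).injective hfg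
    have h2 : φ f = φ g := congrArg Units.val h1
    ext x
    have h3 := LinearMap.congr_fun h2 (Additive.ofMul x)
    exact Additive.ofMul.injective h3
  have hdvd : Nat.card S ∣ Nat.card (GL (Fin n) (ZMod p)) :=
    Subgroup.card_dvd_of_injective (ψ.comp S.subtype) (hinj.comp S.subtype_injective)
  rw [Matrix.card_GL_field, ZMod.card] at hdvd
  obtain ⟨k, hk⟩ := IsPGroup.iff_card.1 hS
  haveI : Fact (Nat.Prime 2) := ⟨Nat.prime_two⟩
  rw [hk] at hdvd ⊢
  have hne : (∏ i : Fin n, (p ^ n - p ^ (i : ℕ))) ≠ 0 := by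
    rw [Finset.prod_ne_zero_iff]
    intro i _
    have := Nat.pow_lt_pow_right (a := p) (by omega) i.2
    omega
  have hle : k ≤ padicValNat 2 (F p n) := by
    rw [← v_GL h3 hodd]
    exact (padicValNat_dvd_iff_le hne).1 hdvd
  calc 2 ^ k ≤ 2 ^ padicValNat 2 (F p n) := Nat.pow_le_pow_right (by norm_num) hle
    _ ≤ (p ^ n) ^ 2 := bound h3 hodd n
    _ = Nat.card Q ^ 2 := by rw [hcard]

/-! ## Restriction and quotient of automorphisms -/

section maps

variable {Q : Type u} [Group Q] (M : Subgroup Q) [hM : M.Characteristic]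

theorem mem_iff (f : MulAut Q) (x : Q) : f x ∈ M ↔ x ∈ M := by
  have := hM.fixed f
  conv_rhs => rw [← this]
  rfl

/-- restriction to a characteristic subgroup -/
def res : MulAut Q →* MulAut M where
  toFun f :=
    { toFun := fun x => ⟨f (x : Q), (mem_iff M f x).2 x.2⟩
      invFun := fun x => ⟨f⁻¹ (x : Q), (mem_iff M f⁻¹ x).2 x.2⟩
      left_inv := fun x => Subtype.ext (MulAut.inv_apply_self Q f x)
      right_inv := fun x => Subtype.ext (MulAut.apply_inv_self Q f x)
      map_mul' := fun x y => Subtype.ext (map_mul f (x : Q) (y : Q)) }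
  map_one' := by
    apply MulEquiv.ext; intro x; rfl
  map_mul' f g := by
    apply MulEquiv.ext; intro x; rfl

/-- the action on the quotient by a characteristic subgroup -/
def quo : MulAut Q →* MulAut (Q ⧸ M) where
  toFun f :=
    { toFun := QuotientGroup.map M M f.toMonoidHom (fun x hx => (mem_iff M f x).2 hx)
      invFun := QuotientGroup.map M M (f⁻¹ : MulAut Q).toMonoidHom (fun x hx => (mem_iff M f⁻¹ x).2 hx)
      left_inv := fun x => by
        induction x using QuotientGroup.induction_on with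
        | H x => exact congrArg _ (MulAut.inv_apply_self Q f x)
      right_inv := fun x => by
        induction x using QuotientGroup.induction_on with
        | H x => exact congrArg _ (MulAut.apply_inv_self Q f x)
      map_mul' := fun x y => map_mul _ x y }
  map_one' := by
    ext x
    induction x using QuotientGroup.induction_on with
    | H x => rfl
  map_mul' f g := by
    ext x
    induction x using QuotientGroup.induction_on with
    | H x => rfl

end maps

theorem aux (N : ℕ) : ∀ (Q : Type u) [Group Q] [Finite Q], Nat.card Q = N → Group.IsNilpotent Q →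
    Odd (Nat.card Q) → ∀ S : Subgroup (MulAut Q), IsPGroup 2 S → Nat.card S ≤ Nat.card Q ^ 2 := by
  induction N using Nat.strong_induction_on with
  | _ N ih =>
  intro Q _ _ hN hnil hodd S hS
  by_cases hM : ∃ M : Subgroup Q, M.Characteristic ∧ M ≠ ⊥ ∧ M ≠ ⊤
  · obtain ⟨M, hMc, hM1, hM2⟩ := hM
    haveI := hMc
    have hc := Subgroup.card_eq_card_quotient_mul_card_subgroup M
    have hMcard : 1 < Nat.card M := by
      have := (Subgroup.one_lt_card_iff_ne_bot M).2 hM1
      exact this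
    have hQcard : 1 < Nat.card (Q ⧸ M) := by
      have : M.index ≠ 1 := fun h => hM2 (Subgroup.index_eq_one.1 h)
      have h0 : Nat.card (Q ⧸ M) = M.index := rfl
      have h1 : Nat.card (Q ⧸ M) ≠ 0 := Nat.card_pos.ne'
      omega
    have hlt1 : Nat.card M < N := by rw [← hN, hc]; nlinarith
    have hlt2 : Nat.card (Q ⧸ M) < N := by rw [← hN, hc]; nlinarith
    have hodd' : Odd (Nat.card (Q ⧸ M)) ∧ Odd (Nat.card M) := by
      rw [hc] at hodd; exact Nat.odd_mul.1 hodd
    have i1 := ih _ hlt1 M rfl inferInstance hodd'.2 (S.map (res M))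
      (IsPGroup.map hS (res M))
    have i2 := ih _ hlt2 (Q ⧸ M) rfl inferInstance hodd'.1 (S.map (quo M))
      (IsPGroup.map hS (quo M))
    haveI : Finite (MulAut M) := inferInstance
    haveI : Finite (MulAut (Q ⧸ M)) := inferInstance
    let Φ : S → (S.map (res M)) × (S.map (quo M)) := fun s =>
      (⟨res M s, Subgroup.mem_map_of_mem _ s.2⟩, ⟨quo M s, Subgroup.mem_map_of_mem _ s.2⟩)
    have key : ∀ s ∈ S, res M s = 1 → quo M s = 1 → s = 1 := by
      intro s hs h1 h2
      obtain ⟨k, hk⟩ := hS ⟨s, hs⟩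
      have hk' : s ^ 2 ^ k = 1 := congrArg Subtype.val hk
      ext x
      have hm : x⁻¹ * s x ∈ M := by
        have := DFunLike.congr_fun h2 (QuotientGroup.mk x)
        have h3 : (QuotientGroup.mk (s x) : Q ⧸ M) = QuotientGroup.mk x := this
        exact QuotientGroup.eq.1 h3.symm
      have hfix : ∀ m ∈ M, s m = m := fun m hm =>
        congrArg Subtype.val (DFunLike.congr_fun h1 (⟨m, hm⟩ : M))
      obtain ⟨m, hmd⟩ : ∃ m, x⁻¹ * s x = m := ⟨_, rfl⟩
      rw [hmd] at hm
      have hsx : s x = x * m := by rw [← hmd]; group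
      have hpow : ∀ j : ℕ, (s ^ j) x = x * m ^ j := by
        intro j
        induction j with
        | zero => simp
        | succ j ihj =>
          rw [pow_succ', MulAut.mul_apply, ihj, map_mul, hsx, hfix _ (M.pow_mem hm j), mul_assoc,
            ← pow_succ']
      have h4 := hpow (2 ^ k)
      rw [hk', MulAut.one_apply] at h4
      have h5 : m ^ 2 ^ k = 1 := by
        have := h4.symm
        exact mul_eq_left.1 this
      have h6 : orderOf m ∣ 2 ^ k := orderOf_dvd_of_pow_eq_one h5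
      have h7 : orderOf m ∣ Nat.card Q := orderOf_dvd_natCard m
      have h8 : Nat.Coprime (2 ^ k) (Nat.card Q) :=
        Nat.Coprime.pow_left k (Nat.coprime_two_left.2 hodd)
      have h9 : orderOf m = 1 := Nat.eq_one_of_dvd_coprimes h8 h6 h7
      rw [orderOf_eq_one_iff] at h9
      rw [hsx, h9, mul_one]; rfl
    have hΦ : Function.Injective Φ := by
      intro s t hst
      have h1 : res M s = res M t := congrArg (fun z => (z.1 : MulAut M)) hst
      have h2 : quo M s = quo M t := congrArg (fun z => (z.2 : MulAut (Q ⧸ M))) hst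
      have h3 := key ((s : MulAut Q)⁻¹ * (t : MulAut Q)) (S.mul_mem (S.inv_mem s.2) t.2)
        (by rw [map_mul, map_inv, h1, inv_mul_cancel]) (by rw [map_mul, map_inv, h2, inv_mul_cancel])
      exact Subtype.ext (inv_mul_eq_one.1 h3)
    calc Nat.card S ≤ Nat.card ((S.map (res M)) × (S.map (quo M))) :=
          Nat.card_le_card_of_injective Φ hΦ
      _ = Nat.card (S.map (res M)) * Nat.card (S.map (quo M)) := Nat.card_prod _ _
      _ ≤ Nat.card M ^ 2 * Nat.card (Q ⧸ M) ^ 2 := Nat.mul_le_mul i1 i2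
      _ = Nat.card Q ^ 2 := by rw [hc]; ring
  · push Not at hM
    rcases subsingleton_or_nontrivial Q with hs | hs
    · haveI : Subsingleton (MulAut Q) := ⟨fun f g => by ext x; exact Subsingleton.elim _ _⟩
      have h1 : Nat.card S ≤ 1 := by
        rw [Nat.card_eq_one_iff_unique.2 ⟨inferInstance, inferInstance⟩]
      have h2 : 1 ≤ Nat.card Q := Nat.card_pos
      calc Nat.card S ≤ 1 := h1
        _ ≤ Nat.card Q ^ 2 := Nat.one_le_pow _ _ h2
    · have hZ : Subgroup.center Q ≠ ⊥ := by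
        haveI := hnil
        exact Group.IsNilpotent.center_ne_bot Q
      have hZt : Subgroup.center Q = ⊤ := hM _ inferInstance hZ
      have hc : ∀ x y : Q, x * y = y * x := fun x y => by
        have hx : x ∈ Subgroup.center Q := hZt ▸ Subgroup.mem_top x
        exact (Subgroup.mem_center_iff.1 hx y).symm
      have hQ1 : Nat.card Q ≠ 1 := (Finite.one_lt_card (α := Q)).ne'
      set p := (Nat.card Q).minFac with hpdef
      haveI hp : Fact p.Prime := ⟨Nat.minFac_prime hQ1⟩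
      have hp2 : p ≠ 2 := by
        intro h
        have : 2 ∣ Nat.card Q := h ▸ Nat.minFac_dvd _
        exact (Nat.not_even_iff_odd.2 hodd) (even_iff_two_dvd.2 this)
      let M : Subgroup Q :=
        { carrier := {x | x ^ p = 1}
          one_mem' := one_pow p
          mul_mem' := fun {a b} ha hb => by
            have hab : Commute a b := hc a b
            change (a * b) ^ p = 1
            rw [hab.mul_pow, show a ^ p = 1 from ha, show b ^ p = 1 from hb, one_mul]
          inv_mem' := fun {a} ha => by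
            change (a⁻¹) ^ p = 1
            rw [inv_pow, show a ^ p = 1 from ha, inv_one] }
      haveI : M.Characteristic := ⟨fun f => by
        ext x
        change (f x) ^ p = 1 ↔ x ^ p = 1
        rw [← map_pow]
        exact f.map_eq_one_iff⟩
      have hMb : M ≠ ⊥ := by
        intro h
        haveI : Fintype Q := Fintype.ofFinite Q
        obtain ⟨x, hx⟩ := exists_prime_orderOf_dvd_card' (G := Q) p (Nat.minFac_dvd _)
        have hxM : x ∈ M := by
          change x ^ p = 1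
          rw [← hx]; exact pow_orderOf_eq_one x
        rw [h, Subgroup.mem_bot] at hxM
        rw [hxM, orderOf_one] at hx
        exact hp.out.one_lt.ne hx
      have hMt : M = ⊤ := hM M inferInstance hMb
      have hpow : ∀ x : Q, x ^ p = 1 := fun x => by
        have hx : x ∈ M := hMt ▸ Subgroup.mem_top x
        exact hx
      let C : CommGroup Q := { ‹Group Q› with mul_comm := hc }
      let Mo : Module (ZMod p) (Additive Q) := AddCommGroup.zmodModule (n := p) (fun x => by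
        apply Additive.toMul.injective
        exact hpow x.toMul)
      exact @linear_case Q C _ p hp hp2 Mo S hS

/-- A `2`-group of automorphisms of a nilpotent group `Q` of odd order has order at most `|Q|²`. -/
theorem two_group_card_le {Q : Type*} [Group Q] [Finite Q] (hnil : Group.IsNilpotent Q)
    (hodd : Odd (Nat.card Q)) (S : Subgroup (MulAut Q)) (hS : IsPGroup 2 S) :
    Nat.card S ≤ Nat.card Q ^ 2 :=
  aux _ Q rfl hnil hodd S hS

end Cfsg.Agent.H446.TwoAutNil

private theorem dce_68a794eb8b6d : _root_.True := by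
  try have : _root_.True := by simp only [_root_.Cfsg.Agent.H446.TwoAutNil.F.eq_1]
  exact _root_.True.intro
end
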