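import Cfsg.Agent.S3927
import Cfsg.Agent.S3949
set_option linter.all false

/-!
# The odd-order elements inverted by an involutory automorphism generate `[G, α]`

`closure_odd`: if `α` is an automorphism of order 2 of the finite group `G` and the elements `g α(g)⁻¹`
generate `G`, then the elements of odd order inverted by `α` generate `G` (S3927 and S3949).
-/

set_option autoImplicit false

namespace Cfsg.Agent.H481.OddGen

variable {G : Type*} [Group G]

/-- **The elements of odd order inverted by an involutory automorphism `α` with `[G, α] = G` generate `G`.** -/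
theorem closure_odd [Finite G] (α : MulAut G) (hα : orderOf α = 2)
    (hG : Subgroup.closure (Set.range (fun c : G => c * (α c)⁻¹)) = ⊤) :
    Subgroup.closure {g : G | Odd (orderOf g) ∧ α g = g⁻¹} = ⊤ := by
  have hj : ∀ g : G, α g = g⁻¹ → ¬ 2 ^ (Nat.card G) ∣ orderOf g := by
    intro g _ hd
    have h1 : orderOf g ≤ Nat.card G := Nat.le_of_dvd Nat.card_pos (orderOf_dvd_natCard g)
    have h2 := Nat.le_of_dvd (orderOf_pos g) hd
    have h3 : Nat.card G < 2 ^ Nat.card G := Nat.lt_two_pow_self
    omega
  have h1 := Cfsg.Agent.S3927.result α hG (Nat.card G) Nat.card_pos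
  rw [Cfsg.Agent.S3949.result α hα hG (Nat.card G) hj] at h1
  exact h1

/-- the commutators with a fixed element generate a normal subgroup -/
theorem normal_closure_comm (t : G) :
    (Subgroup.closure (Set.range (fun c : G => c * (MulAut.conj t c)⁻¹))).Normal := by
  set K := Subgroup.closure (Set.range (fun c : G => c * (MulAut.conj t c)⁻¹)) with hK
  have hmem : ∀ c : G, c * (MulAut.conj t c)⁻¹ ∈ K := fun c => Subgroup.subset_closure ⟨c, rfl⟩
  refine ⟨fun x hx g => ?_⟩
  refine Subgroup.closure_induction (p := fun x _ => g * x * g⁻¹ ∈ K) ?_ ?_ ?_ ?_ hx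
  · rintro _ ⟨c, rfl⟩
    have h1 : g * (c * (MulAut.conj t c)⁻¹) * g⁻¹ =
        ((g * c) * (MulAut.conj t (g * c))⁻¹) * (g * (MulAut.conj t g)⁻¹)⁻¹ := by
      simp only [MulAut.conj_apply]
      group
    simp only [h1]
    exact K.mul_mem (hmem _) (K.inv_mem (hmem _))
  · simp
  · intro x y _ _ hx hy
    have : g * (x * y) * g⁻¹ = (g * x * g⁻¹) * (g * y * g⁻¹) := by group
    rw [this]
    exact K.mul_mem hx hy
  · intro x _ hx
    have : g * x⁻¹ * g⁻¹ = (g * x * g⁻¹)⁻¹ := by group
    rw [this]
    exact K.inv_mem hx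

end Cfsg.Agent.H481.OddGen
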